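import Cfsg.Agent.Gen2.SylowNum
import Cfsg.Agent.Invol.More
import Cfsg.Agent.Solv.SchurZassenhaus
import Cfsg.Agent.Solv.Core

/-!
Real elements of odd order: conjugacy of `y` with one of its powers lifts over normal subgroups
of order prime to `o(y)` (`exists_conj_eq_of_mk`); if `O₂(G)` is not a Sylow subgroup, some
`2`-element inverts an element of odd prime order (`exists_real_of_even_index`).
-/

namespace Cfsg.Agent.Gen2

open Subgroup Pointwise

variable {G : Type*} [Group G] [Finite G]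

theorem exists_conj_eq_of_mk {N : Subgroup G} [N.Normal] {y z g : G}
    (hc : (Nat.card N).Coprime (orderOf y)) (hz : z ∈ zpowers y)
    (h : ((g * y * g⁻¹ : G) : G ⧸ N) = z) : ∃ n ∈ N, n * g * y * (n * g)⁻¹ = z := by
  obtain ⟨n, hn, h1⟩ := Solv.exists_conj_smul_le (N := N) (A := zpowers y)
    (B := zpowers (g * y * g⁻¹)) le_normalizer_of_normal (by
      rw [zpowers_le]
      have : g * y * g⁻¹ = (z * (z⁻¹ * (g * y * g⁻¹)) * z⁻¹) * z := by group
      rw [this]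
      exact mul_mem_sup (Normal.conj_mem inferInstance _ (QuotientGroup.eq.1 h.symm) _) hz)
    (by rwa [Nat.card_zpowers]) (by rwa [Nat.card_zpowers, Invol.orderOf_conj'])
    (Or.inr (Or.inl inferInstance))
  refine ⟨n, hn, ?_⟩
  have h2 := Solv.conj_smul_le_iff.1 h1 _ (mem_zpowers _)
  have h3 : z⁻¹ * (n * (g * y * g⁻¹) * n⁻¹) ∈ N ⊓ zpowers y := by
    refine mem_inf.2 ⟨?_, mul_mem (inv_mem hz) h2⟩
    rw [← QuotientGroup.eq, ← h]
    simp [(QuotientGroup.eq_one_iff n).2 hn]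
  rw [(disjoint_of_coprime_natCard (by rwa [Nat.card_zpowers])).eq_bot, mem_bot, inv_mul_eq_one] at h3
  rw [h3]; group

theorem exists_two_elt_inverts {y g : G} (h : g * y * g⁻¹ = y⁻¹) :
    ∃ g : G, (∃ k, orderOf g = 2 ^ k) ∧ g * y * g⁻¹ = y⁻¹ := by
  obtain ⟨k, m, hm, e⟩ := Nat.exists_eq_two_pow_mul_odd (orderOf_pos g).ne'
  exact ⟨g ^ m, pElt_iff.2 ⟨k, by rw [← pow_mul, mul_comm, ← e, pow_orderOf_eq_one]⟩,
    Invol.pow_inverts_of_odd h hm⟩

theorem exists_real_of_even_index (h : Even (pCore 2 G).index) :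
    ∃ y g : G, (orderOf y).Prime ∧ Odd (orderOf y) ∧ (∃ k, orderOf g = 2 ^ k) ∧
      g * y * g⁻¹ = y⁻¹ := by
  obtain ⟨t, ht⟩ := Invol.exists_invol_of_even (G := G ⧸ pCore 2 G) h
  obtain ⟨r, hr, hr', e⟩ := Invol.exists_prime_inverted ht (by
    rw [Solv.pCore_quotient_pCore]; exact Invol.ne_one_of ht)
  obtain ⟨t, rfl⟩ := QuotientGroup.mk_surjective t
  obtain ⟨r, rfl⟩ := QuotientGroup.mk_surjective r
  have := Fact.mk hr
  obtain ⟨y, -, ⟨k, hk⟩, hy⟩ := exists_pElt_lift (p := orderOf (r : G ⧸ pCore 2 G))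
    (QuotientGroup.mk' (pCore 2 G)) r ⟨1, by simp⟩
  simp only [QuotientGroup.mk'_apply] at hy
  have hodd : Odd (orderOf y) := hk ▸ hr'.pow
  have h1 : orderOf y = orderOf (r : G ⧸ pCore 2 G) := by
    refine Nat.dvd_antisymm (orderOf_dvd_of_pow_eq_one ?_)
      (hy ▸ orderOf_map_dvd (QuotientGroup.mk' (pCore 2 G)) y)
    refine Invol.eq_one_of_odd_of_mem_isPGroup (Solv.isPGroup_pCore 2 G) ?_
      (Invol.odd_orderOf_pow hodd _)
    rw [← QuotientGroup.eq_one_iff, QuotientGroup.mk_pow, hy, pow_orderOf_eq_one]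
  obtain ⟨n, -, hn⟩ := exists_conj_eq_of_mk (N := pCore 2 G) (y := y) (z := y⁻¹) (g := t)
    (Solv.coprime_card_of_isPGroup (Solv.isPGroup_pCore 2 G) (Nat.coprime_two_right.2 hodd))
    (inv_mem (mem_zpowers y)) (by simpa [hy] using e)
  obtain ⟨g, hg, e'⟩ := exists_two_elt_inverts hn
  exact ⟨y, g, h1 ▸ hr, hodd, hg, e'⟩

end Cfsg.Agent.Gen2
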