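import Cfsg.Agent.Gen2.Kazarin
import Cfsg.Agent.Solv.Fitting

/-!
Elements of prime power class size: they centralise `O_q(G)` for `q ≠ p`
(`mem_centralizer_pCore_of_not_dvd`), lie in `Z(F(G))` when `O_p(G) = 1`
(`mem_fitting_of_cs`, `mem_centralizer_fitting_of_cs`), and the Camina–Camina theorem
`commutator_mem_pCore_of_cs` (`[x^G, x^G] ≤ O_p(G)`).
-/

namespace Cfsg.Agent.Gen2

open Subgroup

variable {G : Type*} [Group G] [Finite G]

theorem mem_centralizer_pCore_of_not_dvd {q : ℕ} [Fact q.Prime] {x : G}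
    (h : ¬ q ∣ (centralizer ({x} : Set G)).index) : x ∈ centralizer (pCore q G : Set G) := by
  obtain ⟨Q, hQ⟩ := exists_sylow_le_of_not_dvd_index _ h
  exact fun y hy => mem_cent.1 (hQ (Solv.pCore_le_sylow Q hy))

theorem mem_centralizer_fitting_of_cs {p k : ℕ} (hp : p.Prime) (h0 : pCore p G = ⊥) {x : G}
    (hx : (centralizer ({x} : Set G)).index = p ^ k) :
    x ∈ centralizer (fittingSubgroup G : Set G) := by
  have h : fittingSubgroup G ≤ centralizer ({x} : Set G) := by
    rw [Solv.fitting_eq_iSup_pCore]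
    refine iSup_le fun q => ?_
    by_cases hq : (q : ℕ) = p
    · rw [hq, h0]; exact bot_le
    · have := Fact.mk q.2
      intro y hy
      refine mem_cent.2 (mem_centralizer_pCore_of_not_dvd (q := q) ?_ y hy)
      rw [hx]
      exact fun h => hq ((Nat.prime_dvd_prime_iff_eq q.2 hp).1 (q.2.dvd_of_dvd_pow h))
  exact fun y hy => mem_cent.1 (h hy)

theorem mem_fitting_of_cs {p k : ℕ} (hp : p.Prime) (h0 : pCore p G = ⊥) {x : G}
    (hx : (centralizer ({x} : Set G)).index = p ^ k) : x ∈ fittingSubgroup G := by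
  have : Group.IsSolvable (solvableRadical G ⊓ centralizer (fittingSubgroup G : Set G) :
    Subgroup G) := Solv.isSolvable_of_le inf_le_left
  exact Solv.le_fitting_of_le_centralizer
    (S := solvableRadical G ⊓ centralizer (fittingSubgroup G : Set G)) inf_le_right
    ⟨mem_solRad_of_cs hp hx, mem_centralizer_fitting_of_cs hp h0 hx⟩

/-- Two elements whose class sizes are powers of `p` commute modulo `O_p(G)`. -/
theorem commutator_mem_pCore_of_cs {p k l : ℕ} [hp : Fact p.Prime] {x y : G}
    (hx : (centralizer ({x} : Set G)).index = p ^ k)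
    (hy : (centralizer ({y} : Set G)).index = p ^ l) : x * y * x⁻¹ * y⁻¹ ∈ pCore p G := by
  obtain ⟨k', -, hk⟩ := (Nat.dvd_prime_pow hp.out).1 (hx ▸ cs_quotient_dvd (pCore p G) x)
  obtain ⟨l', -, hl⟩ := (Nat.dvd_prime_pow hp.out).1 (hy ▸ cs_quotient_dvd (pCore p G) y)
  have h := mem_centralizer_fitting_of_cs hp.out (Solv.pCore_quotient_pCore p G) hl _
    (mem_fitting_of_cs hp.out (Solv.pCore_quotient_pCore p G) hk)
  rw [← QuotientGroup.eq_one_iff]
  simp only [QuotientGroup.mk_mul, QuotientGroup.mk_inv, h]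
  group

end Cfsg.Agent.Gen2
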