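import Cfsg.Agent.Perm.Affine
import Cfsg.Agent.Elu.Count
import Cfsg.Agent.AutCl.FieldAut
import Cfsg.Agent.Solv.Hall

/-! Solvable linear groups transitive on the subspaces of each dimension (`EqO.lin_main`); orders of the (semi)affine groups. -/

set_option autoImplicit false
set_option linter.unusedSectionVars false

namespace Cfsg.Agent.Gen2.EqO

open Subgroup Module Cfsg.Agent.Perm

theorem card_planes {K V : Type*} [Field K] [Finite K] [AddCommGroup V] [Module K V] [Finite V] (h2 : 2 ≤ finrank K V) :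
    Nat.card {W : Submodule K V // finrank K W = 2} * ((Nat.card K ^ 2 - 1) * (Nat.card K ^ 2 - Nat.card K)) =
      (Nat.card K ^ finrank K V - 1) * (Nat.card K ^ finrank K V - Nat.card K) := by
  classical
  have := Fintype.ofFinite K
  let f : {s : Fin 2 → V // LinearIndependent K s} → {W : Submodule K V // finrank K W = 2} := fun s =>
    ⟨Submodule.span K (Set.range s.1), by rw [finrank_span_eq_card s.2]; simp⟩
  have hf : ∀ W, Nat.card {s // f s = W} = (Nat.card K ^ 2 - 1) * (Nat.card K ^ 2 - Nat.card K) := fun W => by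
    have e : {s // f s = W} ≃ {s : Fin 2 → W.1 // LinearIndependent K s} :=
      ⟨fun s => ⟨fun i => ⟨s.1.1 i, (congrArg Subtype.val s.2).le (Submodule.subset_span ⟨i, rfl⟩)⟩,
          LinearIndependent.of_comp W.1.subtype s.1.2⟩,
        fun t => ⟨⟨fun i => t.1 i, t.2.map' W.1.subtype W.1.ker_subtype⟩, Subtype.ext (Submodule.eq_of_le_of_finrank_eq
          (Submodule.span_le.2 (by rintro _ ⟨i, rfl⟩; exact (t.1 i).2)) ((f _).2.trans W.2.symm))⟩,
        fun _ => rfl, fun _ => rfl⟩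
    rw [Nat.card_congr e, card_linearIndependent W.2.ge, W.2]
    simp [Fin.prod_univ_two]
  have := Fintype.ofFinite {W : Submodule K V // finrank K W = 2}
  have h := card_linearIndependent (K := K) (V := V) h2
  rw [Nat.card_congr (Equiv.sigmaFiberEquiv f).symm, Nat.card_sigma] at h
  simp only [hf, Finset.sum_const, smul_eq_mul, Finset.card_univ, Fin.prod_univ_two] at h
  simpa using h

section
variable {F : Type*} [Field F]

/-- The semi-affine map with given parameters. -/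
def sa (a : Fˣ) (b : F) (σ : F ≃+* F) : Equiv.Perm F := (σ.toEquiv.trans a.mulLeft).trans (Equiv.addRight b)

theorem sa_apply (a : Fˣ) (b : F) (σ : F ≃+* F) (x : F) : sa a b σ x = a * σ x + b := rfl

theorem sa_inj {a a' : Fˣ} {b b' : F} {σ σ' : F ≃+* F} (h : sa a b σ = sa a' b' σ') : a = a' ∧ b = b' ∧ σ = σ' := by
  have h0 : b = b' := by simpa [sa_apply] using DFunLike.congr_fun h 0
  have h1 : a = a' := by simpa [sa_apply, h0, Units.ext_iff] using DFunLike.congr_fun h 1
  exact ⟨h1, h0, RingEquiv.ext fun x => by simpa [sa_apply, h0, h1] using DFunLike.congr_fun h x⟩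

theorem card_semiaff : Nat.card (semiaffineGroup F) = (Nat.card F - 1) * (Nat.card F * Nat.card (F ≃+* F)) := by
  rw [← Nat.card_units, ← Nat.card_prod, ← Nat.card_prod]
  refine (Nat.card_eq_of_bijective (fun x : Fˣ × F × (F ≃+* F) => (⟨sa x.1 x.2.1 x.2.2, _, _, _, fun _ => rfl⟩ :
    semiaffineGroup F)) ⟨fun x y e => ?_, ?_⟩).symm
  · obtain ⟨h1, h2, h3⟩ := sa_inj (congrArg Subtype.val e)
    exact Prod.ext h1 (Prod.ext h2 h3)
  · rintro ⟨g, a, b, σ, h⟩
    exact ⟨(a, b, σ), Subtype.ext (Equiv.ext fun x => (h x).symm)⟩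

theorem card_aff : Nat.card (affineGroup F) = (Nat.card F - 1) * Nat.card F := by
  rw [← Nat.card_units, ← Nat.card_prod]
  refine (Nat.card_eq_of_bijective (fun x : Fˣ × F => (⟨sa x.1 x.2 1, _, _, fun _ => rfl⟩ :
    affineGroup F)) ⟨fun x y e => ?_, ?_⟩).symm
  · obtain ⟨h1, h2, -⟩ := sa_inj (congrArg Subtype.val e)
    exact Prod.ext h1 h2
  · rintro ⟨g, a, b, h⟩
    exact ⟨(a, b), Subtype.ext (Equiv.ext fun x => (h x).symm)⟩

theorem card_semilin : Nat.card (semiaffineGroup F ⊓ MulAction.stabilizer (Equiv.Perm F) (0 : F) : Subgroup _) =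
    (Nat.card F - 1) * Nat.card (F ≃+* F) := by
  rw [← Nat.card_units, ← Nat.card_prod]
  refine (Nat.card_eq_of_bijective (fun x : Fˣ × (F ≃+* F) => (⟨sa x.1 0 x.2, ⟨_, _, _, fun _ => rfl⟩, by
    show sa _ _ _ 0 = 0; simp [sa_apply]⟩ : (semiaffineGroup F ⊓ MulAction.stabilizer (Equiv.Perm F) (0 : F) : Subgroup _)))
    ⟨fun x y e => ?_, ?_⟩).symm
  · obtain ⟨h1, -, h3⟩ := sa_inj (congrArg Subtype.val e)
    exact Prod.ext h1 h3
  · rintro ⟨g, ⟨a, b, σ, h⟩, h0⟩
    have : b = 0 := by simpa using (h 0).symm.trans h0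
    exact ⟨(a, σ), Subtype.ext (Equiv.ext fun x => by subst this; exact (h x).symm)⟩

theorem sa_pow (a : Fˣ) (b : F) (σ : F ≃+* F) (k : ℕ) : ∃ a' b', sa a b σ ^ k = sa a' b' (σ ^ k) := by
  induction k with
  | zero => exact ⟨1, 0, Equiv.ext fun x => by simp [sa_apply]⟩
  | succ k ih =>
    obtain ⟨c, d, e⟩ := ih
    exact ⟨a * Units.map (σ : F →* F) c, a * σ d + b, Equiv.ext fun x => by
      rw [pow_succ', e, pow_succ']; simp [sa_apply, mul_add, mul_assoc, add_assoc]⟩

theorem le_aff {K : Subgroup (Equiv.Perm F)} (hK : K ≤ semiaffineGroup F) (hc : (Nat.card K).Coprime (Nat.card (F ≃+* F))) :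
    K ≤ affineGroup F := fun g hg => by
  obtain ⟨a, b, σ, h⟩ := hK hg
  have e : g = sa a b σ := Equiv.ext h
  obtain ⟨c, d, e'⟩ := sa_pow a b σ (Nat.card K)
  have h1 : g ^ Nat.card K = 1 := congrArg Subtype.val (pow_card_eq_one' (x := (⟨g, hg⟩ : K)))
  have h2 := (sa_inj (a := c) (b := d) (σ := σ ^ Nat.card K) (a' := 1) (b' := 0) (σ' := 1) (by rw [← e', ← e, h1]; ext x; simp [sa_apply])).2.2
  have h3 : σ = 1 := orderOf_eq_one_iff.1 ((Nat.coprime_self _).1
    ((hc.coprime_dvd_left (orderOf_dvd_of_pow_eq_one h2)).coprime_dvd_right (orderOf_dvd_natCard σ)))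
  exact ⟨a, b, fun x => by rw [h, h3]; rfl⟩

end

theorem arith {p n P k : ℕ} (hp : p.Prime) (h3 : 3 ≤ n) (h1 : P * ((p ^ 2 - 1) * (p ^ 2 - p)) = (p ^ n - 1) * (p ^ n - p))
    (h2 : (p ^ n - 1) * n = P * (p - 1) * k) : n = 3 ∨ n = 5 ∧ p = 2 := by
  obtain ⟨m, rfl⟩ : ∃ m, n = m + 1 := ⟨n - 1, by omega⟩
  have p2 := hp.two_le
  have a1 : 1 ≤ p ^ m := Nat.one_le_pow _ _ hp.pos
  have a2 : p ≤ p ^ 2 := Nat.le_self_pow two_ne_zero p
  have a3 : p ≤ p ^ (m + 1) := Nat.le_self_pow (by omega) p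
  have a4 : 1 < p ^ (m + 1) := by omega
  have key : (p ^ m - 1) * k = (m + 1) * (p ^ 2 - 1) := by
    zify [a1, a2, a3, a4.le, hp.one_le, hp.one_le.trans a2] at h1 h2 ⊢
    have b1 : ((p : ℤ) ^ (m + 1) - 1) * p ≠ 0 := mul_ne_zero (sub_ne_zero.2 (by exact_mod_cast a4.ne')) (by exact_mod_cast hp.ne_zero)
    refine mul_left_cancel₀ b1 ?_
    linear_combination (-k) * h1 - (p ^ 2 - 1) * p * h2
  have k1 : 1 ≤ k := by
    rcases k with _ | k
    · have : 0 < (m + 1) * (p ^ 2 - 1) := Nat.mul_pos (by omega) (Nat.sub_pos_of_lt (by omega))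
      omega
    · omega
  have le : p ^ m - 1 ≤ (m + 1) * (p ^ 2 - 1) := key ▸ Nat.le_mul_of_pos_right _ k1
  rcases (by omega : m = 2 ∨ m = 3 ∨ m = 4 ∨ 5 ≤ m) with rfl | rfl | rfl | h5
  · exact .inl rfl
  · exfalso
    have p3 : p ≤ 3 := by
      have : (p ^ 2 + p + 1) * k = 4 * (p + 1) := by
        zify [a1, hp.one_le.trans a2] at key ⊢
        refine mul_left_cancel₀ (sub_ne_zero.2 (show (p : ℤ) ≠ 1 by exact_mod_cast hp.one_lt.ne')) ?_
        linear_combination key
      nlinarith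
    interval_cases p <;> omega
  · refine .inr ⟨rfl, ?_⟩
    by_contra h
    have : 9 ≤ p ^ 2 := by nlinarith [show 3 ≤ p by omega]
    have e : p ^ 4 = p ^ 2 * p ^ 2 := by ring
    rw [e] at le
    generalize p ^ 2 = x at *
    zify [show 1 ≤ x * x by nlinarith, show 1 ≤ x by omega] at le this
    nlinarith
  · exfalso
    obtain ⟨j, rfl⟩ : ∃ j, m = j + 2 := ⟨m - 2, by omega⟩
    have b1 : j + 4 ≤ 2 ^ j := by
      have : ∀ i, i + 3 + 4 ≤ 2 ^ (i + 3) := fun i => by
        induction i with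
        | zero => norm_num
        | succ i ih => rw [show i + 1 + 3 = i + 3 + 1 by ring, pow_succ]; omega
      obtain ⟨i, rfl⟩ : ∃ i, j = i + 3 := ⟨j - 3, by omega⟩
      exact this i
    have b2 := b1.trans (Nat.pow_le_pow_left p2 j)
    rw [pow_add] at le a1
    have b3 : 4 ≤ p ^ 2 := by nlinarith
    generalize p ^ 2 = x at *
    generalize p ^ j = y at *
    zify [a1, show 1 ≤ x by omega] at le b2 b3
    nlinarith

variable {p : ℕ} [hp : Fact p.Prime] {V : Type*} [AddCommGroup V] [Module (ZMod p) V] [Finite V]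

theorem card_fix {K : Subgroup (V ≃ₗ[ZMod p] V)} {r : ℕ} [Fact r.Prime] (hK : IsPGroup r K) :
    Nat.card V ≡ Nat.card (FixedPoints.addSubgroup K V) [MOD r] ∧ Nat.card (FixedPoints.addSubgroup K V) ∣ Nat.card V :=
  ⟨hK.card_modEq_card_fixedPoints V, AddSubgroup.card_addSubgroup_dvd_card _⟩

theorem not_81 {H : Subgroup (V ≃ₗ[ZMod p] V)} (hs : Group.IsSolvable H) (hV : Nat.card V = 81) (hp3 : p = 3)
    (h4 : finrank (ZMod p) V = 4) (h65 : 65 ∣ Nat.card H) : False := by
  have : Finite (V ≃ₗ[ZMod p] V) := Finite.of_injective _ DFunLike.coe_injective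
  obtain ⟨K, h1, h2⟩ := (Solv.HallOK.of_isSolvable {5, 13} H).exists_hall
  have d : ∀ r : ℕ, r.Prime → r ∈ ({5, 13} : Set ℕ) → r ∣ 65 → r ∣ Nat.card K := fun r hr hm hd =>
    ((Nat.Prime.dvd_mul hr).1 (K.index_mul_card ▸ hd.trans h65)).resolve_left (h2 r hr hm)
  have c : Nat.card K = 65 := by
    have e := (card_subgroup_dvd_card K).trans (card_subgroup_dvd_card H)
    rw [Elu.card_gl, h4, Nat.card_zmod, show Elu.glo p 4 = 2 ^ 9 * (3 ^ 6 * 65) by rw [hp3]; decide] at e
    have k : ∀ r : ℕ, r.Prime → r ∉ ({5, 13} : Set ℕ) → ∀ m, (Nat.card K).Coprime (r ^ m) := fun r hr hm m =>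
      ((Nat.Prime.coprime_iff_not_dvd hr).2 fun h => hm (h1 r hr h)).symm.pow_right m
    exact Nat.dvd_antisymm ((k 3 (by norm_num) (by simp) 6).dvd_of_dvd_mul_left ((k 2 (by norm_num) (by simp) 9).dvd_of_dvd_mul_left e))
      (Nat.Coprime.mul_dvd_of_dvd_of_dvd (show Nat.Coprime 5 13 by norm_num) (d 5 (by norm_num) (by simp) (by norm_num))
        (d 13 (by norm_num) (by simp) (by norm_num)))
  have : Fact (Nat.Prime 5) := ⟨by norm_num⟩
  have : Fact (Nat.Prime 13) := ⟨by norm_num⟩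
  obtain ⟨x, hx⟩ := exists_prime_orderOf_dvd_card' (G := K) 13 (by rw [c]; norm_num)
  obtain ⟨y, hy⟩ := exists_prime_orderOf_dvd_card' (G := K) 5 (by rw [c]; norm_num)
  have hn : (zpowers x).Normal := normal_of_index_eq_minFac_card (by
    have := (zpowers x).index_mul_card
    rw [Nat.card_zpowers, hx, c] at this
    rw [c, show Nat.minFac 65 = 5 by norm_num]; omega)
  let f := H.subtype.comp K.subtype
  have hf : Function.Injective f := Subtype.val_injective.comp Subtype.val_injective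
  have key : ∀ (z : K) (r : ℕ) [Fact r.Prime], orderOf z = r → IsPGroup r (zpowers (f z)) ∧
      81 ≡ Nat.card (FixedPoints.addSubgroup (zpowers (f z)) V) [MOD r] ∧
      Nat.card (FixedPoints.addSubgroup (zpowers (f z)) V) ∣ 27 := fun z r _ hz => by
    have k1 : IsPGroup r (zpowers (f z)) := IsPGroup.of_card (n := 1) (by rw [Nat.card_zpowers, orderOf_injective _ hf, hz, pow_one])
    obtain ⟨k2, k3⟩ := card_fix k1
    rw [hV] at k2 k3
    refine ⟨k1, k2, ?_⟩
    obtain ⟨i, hi, e⟩ := (Nat.dvd_prime_pow Nat.prime_three (m := 4)).1 k3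
    rcases hi.eq_or_lt with rfl | hi
    · have := AddSubgroup.eq_top_of_card_eq _ (e.trans hV.symm)
      have k4 : f z = 1 := LinearEquiv.ext fun v => (this.symm ▸ AddSubgroup.mem_top v :
        v ∈ FixedPoints.addSubgroup (zpowers (f z)) V) ⟨_, mem_zpowers _⟩
      rw [map_eq_one_iff _ hf] at k4
      rw [k4, orderOf_one] at hz
      exact absurd hz.symm (Fact.out : r.Prime).one_lt.ne'
    · exact e ▸ pow_dvd_pow 3 (Nat.le_of_lt_succ hi)
  obtain ⟨-, a1, a2⟩ := key x 13 hx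
  obtain ⟨b0, b1, b2⟩ := key y 5 hy
  let A : SubMulAction (zpowers (f y)) V := ⟨FixedPoints.addSubgroup (zpowers (f x)) V, by
    rintro ⟨_, i, rfl⟩ v hv ⟨_, j, rfl⟩
    obtain ⟨k, hk⟩ := hn.conj_mem _ (zpow_mem (mem_zpowers x) j) (y ^ i)⁻¹
    have e : x ^ j * y ^ i = y ^ i * x ^ k := by rw [show x ^ k = _ from hk]; group
    have e' := congrArg (fun z => f z v) e
    simp only [map_mul, map_zpow, LinearEquiv.mul_apply] at e'
    exact e'.trans (congrArg _ (hv ⟨_, k, rfl⟩))⟩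
  have c1 := b0.card_modEq_card_fixedPoints A
  have c2 : Nat.card (MulAction.fixedPoints (zpowers (f y)) A) ≤ Nat.card (FixedPoints.addSubgroup (zpowers (f y)) V) :=
    Nat.card_le_card_of_injective (fun v => ⟨v.1.1, fun g => congrArg Subtype.val (v.2 g)⟩)
      fun v w e => Subtype.ext (Subtype.ext (Subtype.mk.inj e))
  have c3 : Nat.card A = Nat.card (FixedPoints.addSubgroup (zpowers (f x)) V) := rfl
  rw [c3] at c1
  obtain ⟨i, hi, e1⟩ := (Nat.dvd_prime_pow Nat.prime_three (m := 3)).1 a2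
  obtain ⟨j, hj, e2⟩ := (Nat.dvd_prime_pow Nat.prime_three (m := 3)).1 b2
  rw [e1] at a1 c1
  rw [e2] at b1 c2
  unfold Nat.ModEq at a1 b1 c1
  interval_cases i <;> interval_cases j <;> omega

theorem lin_main {H : Type*} [Group H] [Finite H] (ρ : H →* (V ≃ₗ[ZMod p] V)) (hs : Group.IsSolvable H) {n : ℕ}
    (hn : finrank (ZMod p) V = n) (h3 : 3 ≤ n) (htr : ∀ U W : Submodule (ZMod p) V,
      finrank (ZMod p) U = finrank (ZMod p) W → ∃ g, U.map (ρ g : V →ₗ[ZMod p] V) = W) :
    ∃ (F : Type) (_ : Field F) (_ : Fintype F) (e : V ≃+ F), (∀ g, ∃ (a : F) (σ : F ≃+* F), ∀ v, e (ρ g v) = a * σ (e v)) ∧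
      (n = 3 ∨ n = 5 ∧ p = 2) ∧ ∃ P, P ∣ Nat.card H ∧ P * ((p ^ 2 - 1) * (p ^ 2 - p)) = (p ^ n - 1) * (p ^ n - p) := by
  let ψ := ρ.noncommCoprod (DistribMulAction.toModuleAut (ZMod p) V : (ZMod p)ˣ →* _) fun g e => by
    ext v; simp [Units.smul_def]
  have hψ : ∀ g e v, ψ (g, e) v = (e : ZMod p) • ρ g v := fun g e v => map_smul (ρ g) (e : ZMod p) v
  have cV : Nat.card V = p ^ n := by rw [Module.natCard_eq_pow_finrank (K := ZMod p), Nat.card_zmod, hn]
  have : Nontrivial V := Module.nontrivial_of_finrank_pos (R := ZMod p) (by omega)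
  have : Finite ψ.range := Finite.of_surjective _ ψ.rangeRestrict_surjective
  have hs' := Group.isSolvable_of_surjective ψ.rangeRestrict_surjective
  have tr : ∀ v w : V, v ≠ 0 → w ≠ 0 → ∃ g : ψ.range, ψ.range.subtype g v = w := fun v w hv hw => by
    obtain ⟨g, hg⟩ := htr (Submodule.span _ {v}) (Submodule.span _ {w}) (by rw [finrank_span_singleton hv, finrank_span_singleton hw])
    obtain ⟨c, hc⟩ := Submodule.mem_span_singleton.1 (hg ▸ Submodule.mem_map_of_mem (Submodule.mem_span_singleton_self v))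
    have hc : c • w = ρ g v := hc
    have c0 : c ≠ 0 := by rintro rfl; rw [zero_smul, eq_comm, map_eq_zero_iff _ (ρ g).injective] at hc; exact hv hc
    exact ⟨⟨_, (g, (Units.mk0 c c0)⁻¹), rfl⟩, (hψ _ _ _).trans (by simp [← hc, c0])⟩
  obtain ⟨W0, hW0⟩ : ∃ W : Submodule (ZMod p) V, finrank (ZMod p) W = 2 := by
    obtain ⟨s, hs⟩ := exists_linearIndependent_of_le_finrank (show 2 ≤ finrank (ZMod p) V by omega)
    exact ⟨Submodule.span _ (Set.range s), by rw [finrank_span_eq_card hs]; simp⟩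
  have hP := card_planes (K := ZMod p) (V := V) (by omega)
  rw [Nat.card_zmod, hn] at hP
  have hfr : ∀ (g : V ≃ₗ[ZMod p] V), finrank (ZMod p) (W0.map (g : V →ₗ[ZMod p] V)) = 2 := fun g => by
    rw [LinearEquiv.finrank_map_eq, hW0]
  have d1 := Elu.orbit_dvd (G := H) (K := Unit) (fun g (W : Submodule (ZMod p) V) => W.map (ρ g : V →ₗ[ZMod p] V))
    (fun a => by simp only [map_one]; exact Elu.map_one_sub a) (fun g h a => by simp only [map_mul]; exact Elu.map_mul_sub _ _ a)
    W0 (fun W => finrank (ZMod p) W = 2) (fun W => ⟨fun h => htr _ _ (hW0.trans h.symm), by rintro ⟨g, rfl⟩; exact hfr _⟩)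
    1 (fun _ _ _ => rfl) (fun _ => by simp only [MonoidHom.one_apply, map_one]; exact Elu.map_one_sub _)
  have d2 := Elu.orbit_dvd (G := ψ.range) (K := (ZMod p)ˣ) (fun g (W : Submodule (ZMod p) V) => W.map (g.1 : V →ₗ[ZMod p] V))
    Elu.map_one_sub (fun g h a => Elu.map_mul_sub _ _ a)
    W0 (fun W => finrank (ZMod p) W = 2) (fun W => ⟨fun h => by
      obtain ⟨g, hg⟩ := htr _ _ (hW0.trans h.symm)
      exact ⟨⟨_, (g, 1), rfl⟩, by rw [← hg]; congr 1; ext v; exact (hψ _ _ _).trans (one_smul _ _)⟩,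
      by rintro ⟨g, rfl⟩; exact hfr _⟩)
    (ψ.rangeRestrict.comp (MonoidHom.inr _ _)) ((injective_iff_map_eq_one _).2 fun c e => by
      obtain ⟨v, hv⟩ := exists_ne (0 : V)
      have := (hψ 1 c v).symm.trans (DFunLike.congr_fun (congrArg Subtype.val e) v)
      rw [map_one] at this
      exact Units.ext (smul_left_injective (ZMod p) hv (this.trans (one_smul _ _).symm)))
    (fun c => Submodule.eq_of_le_of_finrank_eq (by
      rintro _ ⟨v, hv, rfl⟩
      have := hψ 1 c v
      rw [map_one] at this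
      exact this ▸ W0.smul_mem _ hv) ((hfr _).trans hW0.symm))
  rw [Nat.card_unique (α := Unit), mul_one] at d1
  rw [Nat.card_units, Nat.card_zmod] at d2
  rcases huppert ψ.range.subtype hs' (subtype_injective _) tr with ⟨F, i1, i2, e, he⟩ | k
  · refine ⟨F, i1, i2, e, fun g => ?_, ?_, _, d1, hP⟩
    · obtain ⟨c, σ, hc⟩ := he ⟨_, (g, 1), rfl⟩
      exact ⟨c, σ, fun v => by rw [← hc]; exact congrArg e ((hψ _ _ _).trans (one_smul _ _)).symm⟩
    · have cF : Nat.card F = p ^ n := by rw [← Nat.card_congr e.toEquiv, cV]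
      let χ : ψ.range →* Equiv.Perm F := e.toEquiv.permCongrHom.toMonoidHom.comp (MulAction.toPermHom ψ.range V)
      have hχ : Function.Injective χ := e.toEquiv.permCongrHom.injective.comp MulAction.toPerm_injective
      have hχ' : ∀ g v, χ g (e v) = e (g.1 v) := fun g v => by simp [χ]; rfl
      have d3 : Nat.card ψ.range ∣ (p ^ n - 1) * n := by
        rw [← cF, ← AutCl.card_ringAut (F := F) (p := p) (f := n) (by rw [← Nat.card_eq_fintype_card, cF]), ← card_semilin,
          Nat.card_congr (MonoidHom.ofInjective hχ).toEquiv]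
        refine card_dvd_of_le ?_
        rintro _ ⟨g, rfl⟩
        obtain ⟨c, σ, hc⟩ := he g
        obtain ⟨v, hv⟩ := exists_ne (0 : V)
        have c0 : c ≠ 0 := by
          rintro rfl
          have := hc v
          rw [zero_mul, map_eq_zero_iff _ e.injective, map_eq_zero_iff _ (LinearEquiv.injective _)] at this
          exact hv this
        refine ⟨⟨Units.mk0 c c0, 0, σ, fun x => ?_⟩, ?_⟩
        · rw [← e.apply_symm_apply x, hχ', add_zero]; exact hc _
        · show χ g 0 = 0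
          rw [← map_zero e, hχ', map_zero]
      obtain ⟨k, hk⟩ := d2.trans d3
      exact arith hp.out h3 hP hk
  · exfalso
    rw [cV] at k
    have key : ∀ a : ℕ, a.Prime → ∀ m, p ^ n = a ^ m → p = a ∧ n = m := fun a ha m e => by
      have : p = a := (Nat.prime_dvd_prime_iff_eq hp.out ha).1 (hp.out.dvd_of_dvd_pow (e ▸ dvd_pow_self p (by omega)))
      exact ⟨this, Nat.pow_right_injective ha.two_le (this ▸ e)⟩
    simp only [Set.mem_insert_iff, Set.mem_singleton_iff] at k
    rcases k with k | k | k | k | k | k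
    · have := key 3 (by norm_num) 2 k; omega
    · have := key 5 (by norm_num) 2 k; omega
    · have := key 7 (by norm_num) 2 k; omega
    · have := key 11 (by norm_num) 2 k; omega
    · have := key 23 (by norm_num) 2 k; omega
    obtain ⟨e1, e2⟩ := key 3 (by norm_num) 4 k
    refine not_81 hs' (cV.trans k) e1 (hn.trans e2) (dvd_trans ?_ d2)
    rw [e2] at hP
    generalize Nat.card {W : Submodule (ZMod p) V // finrank (ZMod p) W = 2} = P at hP
    rw [e1] at hP ⊢
    omega

end Cfsg.Agent.Gen2.EqO
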