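import Cfsg.Agent.Gen2.EqO1
import Cfsg.Agent.Solv.Core
import Cfsg.Agent.Transfer.Alperin

/-! Groups in which the subgroups of equal order of an elementary abelian Sylow subgroup are conjugate (`EqO.grp_main`,
`EqO.loc_main`). -/

set_option autoImplicit false
set_option linter.unusedSectionVars false

namespace Cfsg.Agent.Gen2.EqO

open Subgroup Module Cfsg.Agent.Perm Cfsg.Agent.BG MulAction

variable {G : Type*} [Group G] [Finite G] {p : ℕ} [hp : Fact p.Prime]

/-- The conclusion. -/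
def Out (G : Type*) [Group G] (p : ℕ) [Fact p.Prime] (n : ℕ) : Prop :=
  (n = 3 ∧ (∃ f : G →* semiaffineGroup (GaloisField p 3), Function.Injective f) ∧
    (p = 2 → Nonempty (G ≃* semiaffineGroup (GaloisField 2 3)) ∨ Nonempty (G ≃* affineGroup (GaloisField 2 3)))) ∨
  (n = 5 ∧ p = 2 ∧ Nonempty (G ≃* semiaffineGroup (GaloisField 2 5)))

theorem card_semiaff_gf {n : ℕ} (hn : n ≠ 0) : Nat.card (semiaffineGroup (GaloisField p n)) = (p ^ n - 1) * (p ^ n * n) := by
  have := Fintype.ofFinite (GaloisField p n)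
  rw [card_semiaff, AutCl.card_ringAut (p := p) (f := n) (by rw [← Nat.card_eq_fintype_card, GaloisField.card p n hn]),
    GaloisField.card p n hn]

theorem grp_main {V : Subgroup G} [V.Normal] (hV : Abelem p V) (hi : ¬ p ∣ V.index) (hO : pPrimeCore p G = ⊥)
    (hs : Group.IsSolvable G) {n : ℕ} (hn : Nat.card V = p ^ n) (h3 : 3 ≤ n) (htr : ∀ U W : Subgroup G, U ≤ V → W ≤ V →
      Nat.card U = Nat.card W → ∃ g : G, W = U.map (MulAut.conj g).toMonoidHom) : Out G p n := by
  obtain ⟨K, hK⟩ := exists_right_complement'_of_coprime (N := V) (by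
    rw [hn]; exact ((hp.out.coprime_iff_not_dvd.2 hi)).pow_left n)
  have cK : Nat.card K = V.index := hK.symm.index_eq_card.symm
  have hst : stabilizer G ((1 : G) : G ⧸ K) = K := stabilizer_quotient K
  have dec : ∀ g : G, ∃ v ∈ V, ∃ k ∈ K, v * k = g := fun g => by
    obtain ⟨⟨v, k⟩, e⟩ := hK.existsUnique g |>.exists
    exact ⟨v, v.2, k, k.2, e⟩
  have : FaithfulSMul G (G ⧸ K) := ⟨fun {a b} h => by
    have h1 : K.normalCore = ⊥ := eq_bot_iff.2 (hO ▸ Solv.le_pPrimeCore
      ((hp.out.coprime_iff_not_dvd.2 (cK ▸ hi)).symm.coprime_dvd_left (card_dvd_of_le K.normalCore_le)))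
    rw [normalCore_eq_ker, MonoidHom.ker_eq_bot_iff] at h1
    exact h1 (Equiv.ext h)⟩
  have ht : IsPretransitive V (G ⧸ K) := IsPretransitive.of_orbit (x₀ := ((1 : G) : G ⧸ K)) fun x => by
    obtain ⟨g, rfl⟩ := QuotientGroup.mk_surjective x
    obtain ⟨v, hv, k, hk, rfl⟩ := dec g
    exact ⟨⟨v, hv⟩, QuotientGroup.eq.2 (by simpa using hk)⟩
  have hr : ∀ u ∈ V, u • ((1 : G) : G ⧸ K) = ((1 : G) : G ⧸ K) → u = 1 := fun u hu h =>
    disjoint_def.1 hK.disjoint hu (hst ▸ h : u ∈ K)
  obtain ⟨F, _, _, e, he, h35, P, hP, hP'⟩ := lin_main (linRep hV (stabilizer G ((1 : G) : G ⧸ K))) inferInstance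
    (AbV.finrank_eq hV hn) h3 fun U W h => by
      obtain ⟨g, hg⟩ := htr _ _ (AbV.toSub_le U) (AbV.toSub_le W) (by rw [AbV.card_toSub_eq_pow, AbV.card_toSub_eq_pow, h])
      obtain ⟨v, hv, k, hk, rfl⟩ := dec g
      refine ⟨⟨k, hst.symm ▸ hk⟩, Submodule.eq_of_le_of_finrank_eq ?_ (by rw [LinearEquiv.finrank_map_eq, h])⟩
      rintro _ ⟨u, hu, rfl⟩
      rw [← AbV.val_mem_toSub, hg]
      refine ⟨u.val, AbV.val_mem_toSub.2 hu, ?_⟩
      have := hV.1
      have := setLike_mul_comm (s := V) hv ((inferInstance : V.Normal).conj_mem _ u.val_mem k)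
      show v * k * u.val * (v * k)⁻¹ = k * u.val * k⁻¹
      rw [← mul_inv_eq_iff_eq_mul] at this
      rw [← this]; group
  have cΩ : Nat.card (G ⧸ K) = p ^ n := by rw [← hn, ← hK.index_eq_card]; rfl
  obtain ⟨ε, hε, -⟩ := exists_semiaffine hV ht _ hr cΩ e he
  let f : G →* semiaffineGroup (GaloisField p n) :=
    (ε.permCongrHom.toMonoidHom.comp (toPermHom G (G ⧸ K))).codRestrict _ hε
  have hf : Function.Injective f := fun a b h =>
    (ε.permCongrHom.injective.comp toPerm_injective) (congrArg Subtype.val h)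
  have cG : Nat.card G = p ^ n * Nat.card K := by rw [← hn, hK.card_mul_card]
  have d := card_dvd_of_injective f hf
  rw [hst] at hP
  rw [card_semiaff_gf (by omega), cG] at d
  have bij : Nat.card G = (p ^ n - 1) * (p ^ n * n) → Nonempty (G ≃* semiaffineGroup (GaloisField p n)) := fun h =>
    ⟨MulEquiv.ofBijective f (hf.bijective_of_nat_card_le (by rw [card_semiaff_gf (by omega), h]))⟩
  rcases h35 with rfl | ⟨rfl, rfl⟩
  · refine .inl ⟨rfl, ⟨f, hf⟩, ?_⟩
    rintro rfl
    obtain rfl : P = 7 := by omega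
    obtain ⟨k, hk⟩ := hP
    have : k ∣ 3 := Nat.dvd_of_mul_dvd_mul_left (show 0 < 56 by norm_num) (by rw [hk, ← mul_assoc] at d; exact d)
    rcases (Nat.dvd_prime Nat.prime_three).1 this with rfl | rfl
    · have := Fintype.ofFinite (GaloisField 2 3)
      have c : Nat.card ((semiaffineGroup _).subtype.comp f).range = 56 := by
        rw [← Nat.card_congr (MonoidHom.ofInjective (f := (semiaffineGroup _).subtype.comp f)
          (Subtype.val_injective.comp hf)).toEquiv, cG, hk]; rfl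
      have e1 : ((semiaffineGroup _).subtype.comp f).range = affineGroup (GaloisField 2 3) :=
        eq_of_le_of_card_ge (le_aff (by rintro _ ⟨g, rfl⟩; exact (f g).2) (by
          rw [c, AutCl.card_ringAut (p := 2) (f := 3) (by rw [← Nat.card_eq_fintype_card, GaloisField.card 2 3 (by norm_num)])]
          norm_num)) (by rw [c, card_aff, GaloisField.card 2 3 (by norm_num)]; rfl)
      exact .inr ⟨(MonoidHom.ofInjective (f := (semiaffineGroup _).subtype.comp f) (Subtype.val_injective.comp hf)).trans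
        (MulEquiv.subgroupCongr e1)⟩
    · exact .inl (bij (by rw [cG, hk]; rfl))
  · obtain rfl : P = 155 := by omega
    exact .inr ⟨rfl, rfl, bij (Nat.dvd_antisymm (cG ▸ d) (cG ▸ Nat.mul_dvd_mul_left (2 ^ 5) hP))⟩

theorem loc_main (P : Sylow p G) (hel : Abelem p (P : Subgroup G)) (hC : ∀ H K : Subgroup G, H ≤ P → K ≤ P →
      Nat.card H = Nat.card K → ∃ g : G, K = H.map (MulAut.conj g).toMonoidHom) {n : ℕ} (hn : 3 ≤ n)
    (hcard : Nat.card P = p ^ n) {N : Subgroup G} (hN : N = normalizer ((P : Subgroup G) : Set G))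
    (hsolv : Group.IsSolvable (N ⧸ pPrimeCore p N)) : Out (N ⧸ pPrimeCore p N) p n := by
  subst hN
  let π := QuotientGroup.mk' (pPrimeCore p (normalizer ((P : Subgroup G) : Set G)))
  have hπ : Function.Surjective π := QuotientGroup.mk'_surjective _
  let Q := (P : Subgroup G).subgroupOf (normalizer ((P : Subgroup G) : Set G))
  have hQ : IsPGroup p Q := P.2.comap_subtype
  have : (Q.map π).Normal := Normal.map inferInstance π hπ
  have hc : ∀ U ≤ Q, Nat.card (U.map π) = Nat.card (U.map (normalizer ((P : Subgroup G) : Set G)).subtype) :=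
    fun U hU => by
    rw [card_map_of_injective (subtype_injective _), ← relIndex_ker, QuotientGroup.ker_mk', ← relIndex_bot_left,
      ← inf_relIndex_right, Solv.eq_bot_of_isPGroup_of_coprime (p := p) (hQ.to_le (inf_le_right.trans hU))
        ((Solv.coprime_card_pPrimeCore p _).coprime_dvd_left (card_dvd_of_le inf_le_left))]
  refine grp_main (V := Q.map π) ⟨⟨⟨?_⟩⟩, ?_⟩ ((P.subtype le_normalizer).mapSurjective hπ).not_dvd_index
    (Solv.pPrimeCore_quotient_pPrimeCore _ _) hsolv ?_ hn fun U W hU hW h => ?_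
  · rintro ⟨_, x, hx, rfl⟩ ⟨_, y, hy, rfl⟩
    have := hel.1
    exact Subtype.ext ((map_mul π x y).symm.trans ((congrArg π (Subtype.ext
      (setLike_mul_comm (s := (P : Subgroup G)) hx hy))).trans (map_mul π y x)))
  · rintro _ ⟨x, hx, rfl⟩
    rw [← map_pow, show x ^ p = 1 from Subtype.ext (hel.2 _ hx), map_one]
  · rw [hc _ le_rfl, ← hcard]
    exact congrArg (fun H : Subgroup G => Nat.card H) (map_subgroupOf_eq_of_le le_normalizer)
  · have k : ∀ U ≤ Q.map π, (Q ⊓ U.comap π).map π = U := fun U hU => le_antisymm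
      (map_le_iff_le_comap.2 inf_le_right) fun u hu => by
        obtain ⟨x, hx, rfl⟩ := hU hu
        exact ⟨x, ⟨hx, hu⟩, rfl⟩
    have l : ∀ U : Subgroup _, (Q ⊓ U.comap π).map (normalizer ((P : Subgroup G) : Set G)).subtype ≤ P := fun U => by
      rintro _ ⟨x, hx, rfl⟩; exact hx.1
    obtain ⟨g, hg⟩ := hC _ _ (l U) (l W) (by rw [← hc _ inf_le_left, ← hc _ inf_le_left, k U hU, k W hW, h])
    have := hel.1
    obtain ⟨m, hm, hm'⟩ := Transfer.exists_normalizer_conj_eq_of_centralizer P (g := g)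
      (A := (Q ⊓ U.comap π).map (normalizer ((P : Subgroup G) : Set G)).subtype) ((l U).trans (le_centralizer _))
      fun a ha => (l W).trans (le_centralizer _) (hg ▸ ⟨a, ha, rfl⟩)
    refine ⟨π ⟨m, hm⟩, (eq_of_le_of_card_ge ?_ (by
      rw [card_map_of_injective (f := (MulAut.conj _).toMonoidHom) (MulAut.conj _).injective, h])).symm⟩
    rw [← k U hU]
    rintro _ ⟨_, ⟨x, hx, rfl⟩, rfl⟩
    obtain ⟨y, hy, e⟩ : m * x * m⁻¹ ∈ (Q ⊓ W.comap π).map (normalizer ((P : Subgroup G) : Set G)).subtype := by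
      rw [hm' x ⟨x, hx, rfl⟩, hg]; exact ⟨_, ⟨x, hx, rfl⟩, rfl⟩
    show π _ * π x * (π _)⁻¹ ∈ W
    rw [← map_inv, ← map_mul, ← map_mul, show (⟨m, hm⟩ * x * ⟨m, hm⟩⁻¹ : normalizer ((P : Subgroup G) : Set G)) = y from
      Subtype.ext e.symm]
    exact hy.2

end Cfsg.Agent.Gen2.EqO
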