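import Cfsg.Agent.Gen2.EqO2
import Cfsg.Agent.LieM.Gold10
import Cfsg.Agent.AB.EE
import Cfsg.Agent.Sig.Gs
import Cfsg.Agent.FTC.Aniso
import Cfsg.Agent.SE.Bender

/-! Groups whose abelian `p`-subgroups of equal order are conjugate (`EqO.AD`): the simple normal subgroups
(`EqO.AD.simple`). -/

set_option autoImplicit false
set_option linter.unusedSectionVars false

namespace Cfsg.Agent.Gen2.EqO

open Subgroup Cfsg.Agent.BG MulAction
open scoped MatrixGroups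

universe u
variable {G : Type u} [Group G] [Finite G] {p : ℕ} {M : Subgroup G} {x y : G}

/-- Abelian `p`-subgroups of equal order are conjugate. -/
def AD (G : Type*) [Group G] (p : ℕ) : Prop :=
  ∀ H K : Subgroup G, IsPGroup p H → IsMulCommutative H → IsMulCommutative K → Nat.card H = Nat.card K →
    ∃ g : G, K = H.map (MulAut.conj g).toMonoidHom

theorem AD.conj (h : AD G p) (hp : p.Prime) (hx : orderOf x = p) (hy : orderOf y = p) :
    ∃ g : G, zpowers y = zpowers (g * x * g⁻¹) := by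
  have := Fact.mk hp
  obtain ⟨g, hg⟩ := h (zpowers x) (zpowers y) (IsPGroup.of_card (n := 1) (by rw [Nat.card_zpowers, hx, pow_one]))
    inferInstance inferInstance (by rw [Nat.card_zpowers, Nat.card_zpowers, hx, hy])
  exact ⟨g, by rw [hg, MonoidHom.map_zpowers]; rfl⟩

theorem AD.mem (h : AD G p) (hp : p.Prime) [hM : M.Normal] (hd : p ∣ Nat.card M) (hy : y ^ p = 1) : y ∈ M := by
  have := Fact.mk hp
  by_cases y1 : y = 1
  · exact y1 ▸ one_mem _
  obtain ⟨x, hx⟩ := exists_prime_orderOf_dvd_card' p hd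
  obtain ⟨g, hg⟩ := h.conj hp ((orderOf_coe x).trans hx) (orderOf_eq_prime hy y1)
  exact (zpowers_le.2 (hM.conj_mem _ x.2 g)) (hg ▸ mem_zpowers y)

theorem AD.abelem (h : AD G 2) (h2 : SE.Rank2 (⊤ : Subgroup G)) {P : Subgroup G} (hP : IsPGroup 2 P) : Abelem 2 P := by
  have sq : ∀ x ∈ P, x ^ 2 = 1 := fun x hx => by
    obtain ⟨k, hk⟩ := (IsPGroup.iff_orderOf.1 hP) ⟨x, hx⟩
    rw [← orderOf_coe] at hk
    by_contra hne
    have k2 : 2 ≤ k := by
      by_contra hlt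
      refine hne (orderOf_dvd_iff_pow_eq_one.1 ?_)
      rw [show orderOf x = 2 ^ k from hk]
      interval_cases k <;> decide
    have o4 : orderOf (x ^ 2 ^ (k - 2)) = 4 := by
      rw [orderOf_pow_of_dvd (by positivity) (by rw [show orderOf x = 2 ^ k from hk]; exact pow_dvd_pow _ (by omega)),
        show orderOf x = 2 ^ k from hk, Nat.pow_div (by omega) two_pos, show k - (k - 2) = 2 by omega]
      rfl
    obtain ⟨V, hV, h3, h4⟩ := SE.rank2_iff.1 h2
    have aV : Abelem 2 V := ⟨hV, h3⟩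
    obtain ⟨W, h5⟩ := Sylow.exists_subgroup_card_pow_prime_of_le_card (G := V) Nat.prime_two aV.pg h4
    have aW : Abelem 2 (W.map V.subtype) := abelemS (map_subtype_le W) aV
    obtain ⟨g, hg⟩ := h (W.map V.subtype) (zpowers (x ^ 2 ^ (k - 2))) aW.pg aW.abelian inferInstance
      (by rw [card_map_of_injective V.subtype_injective, h5, Nat.card_zpowers, o4]; rfl)
    have := (hg ▸ abelem_map _ aW : Abelem 2 (zpowers (x ^ 2 ^ (k - 2)))).pow (mem_zpowers _)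
    exact absurd (o4 ▸ orderOf_dvd_of_pow_eq_one this) (by decide)
  refine abelemP.2 ⟨⟨⟨fun a b => Subtype.ext ?_⟩⟩, sq⟩
  have e : ∀ x ∈ P, x⁻¹ = x := fun x hx => inv_eq_of_mul_eq_one_right (by rw [← pow_two, sq x hx])
  show a.1 * b = b * a
  rw [← e _ (mul_mem a.2 b.2), mul_inv_rev, e _ a.2, e _ b.2]

theorem sol_of_index {A : Subgroup G} [A.Normal] (hA : Group.IsSolvable A) (ho : Odd A.index) : Group.IsSolvable G :=
  haveI : Group.IsSolvable (G ⧸ A) := FTC.solvable_of_odd ho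
  Group.isSolvable_of_ker_le_range A.subtype (QuotientGroup.mk' A) (by simp)

theorem sol_norm (P : Sylow 2 G) (hP : IsMulCommutative (P : Subgroup G)) : Group.IsSolvable N[(P : Subgroup G)] := by
  refine sol_of_index (A := (P : Subgroup G).subgroupOf N[(P : Subgroup G)])
    (Group.isSolvable_of_comm fun a b => mul_comm' a b) ?_
  exact Nat.not_even_iff_odd.1 fun h => P.not_dvd_index ((even_iff_two_dvd.1 h).trans (relIndex_dvd_index_of_le le_normalizer))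

theorem not_ree [hM : M.Normal] (h3 : AD G 3) (h : IsReeType M) : False := by
  have := Fact.mk Nat.prime_three
  have hab := Sig.ree_hab h
  obtain ⟨s, y, ss, y3, sy, y1⟩ : ∃ s y : M, s * s = 1 ∧ y ^ 3 = 1 ∧ s * y * s⁻¹ = y⁻¹ ∧ y ≠ 1 := by
    simpa [Sig.NoS3] using Sig.ree_S3 h
  obtain ⟨-, -, t, K, n, hn, ht, -, dp, F, _, _, hF, ⟨e⟩⟩ := h
  have dp' : Dprod (zpowers t) K C1[t] := ⟨dp.2.2.2.2, cents_symm (le_cent_iff.2 dp.2.2.1), dp.2.2.2.1⟩
  obtain ⟨x, hx⟩ := exists_prime_orderOf_dvd_card' (G := K) 3 (Nat.card_congr e.toEquiv ▸ LieM.three_dvd_PSL2 F)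
  obtain ⟨g, hg⟩ := h3.conj Nat.prime_three ((orderOf_coe y).trans (orderOf_eq_prime y3 y1))
    ((orderOf_coe x.1).trans ((orderOf_coe x).trans hx))
  set s' : M := MulAut.conjNormal g s
  have inv : ∀ z ∈ zpowers x.1, s' * z * s'⁻¹ = z⁻¹ := fun z hz => by
    obtain ⟨k, hk⟩ : z.1 ∈ zpowers (g * y * g⁻¹) := hg ▸ (by
      obtain ⟨k, rfl⟩ := hz
      exact ⟨k, rfl⟩)
    have : z = MulAut.conjNormal g (y ^ k) := Subtype.ext (by simp [← hk])
    rw [this, ← map_inv, ← map_mul, ← map_mul, ← conj_zpow, sy, inv_zpow, map_inv]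
  have p2 : ∀ a : M, a * a = 1 → IsPGroup 2 (zpowers a) := fun a ha => (cycle_abelem ((pow_two a).trans ha)).pg
  have tt : t * t = 1 := by rw [← sq, ← ht, pow_orderOf_eq_one]
  have xt : Commute t x := dp.2.2.1 t (mem_zpowers t) x x.2
  obtain ⟨Q, hQ, tQ⟩ := Sylow_superset (M := N[zpowers x.1])
    (zpowers_le.2 (cent1_le_norm_zpowers _ (mem_cent1.2 xt.eq))) (p2 t tt)
  obtain ⟨c, hc, h1⟩ := Sylow_Jsub hQ (Q := zpowers s') (zpowers_le.2 (mem_norm_of_cj_le fun z hz => by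
    obtain ⟨a, ha, rfl⟩ := mem_cj'.1 hz
    exact inv a ha ▸ inv_mem ha)) (p2 s' (by rw [← map_mul, ss, map_one]))
  have := hab Q hQ.pg
  have h2 : c * s' * c⁻¹ ∈ C1[t] :=
    mem_cent1.2 (setLike_mul_comm (s := Q) (h1 (mem_cj'.2 ⟨s', mem_zpowers _, rfl⟩)) (tQ (mem_zpowers t)))
  have h4 : c * s' * c⁻¹ * x * (c * s' * c⁻¹)⁻¹ = x.1⁻¹ := by
    have := inv (c⁻¹ * x * c) (mem_cj.1 ((mem_norm.1 hc).symm ▸ mem_zpowers x.1))
    calc _ = c * (s' * (c⁻¹ * x * c) * s'⁻¹) * c⁻¹ := by group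
      _ = _ := by rw [this]; group
  obtain ⟨a, ha, k, hk, h5⟩ := dp'.sdprod.mem h2
  have h6 : (⟨k, hk⟩ : K) * x * (⟨k, hk⟩ : K)⁻¹ = x⁻¹ := Subtype.ext (by
    obtain ⟨j, rfl⟩ := ha
    have c1 := (xt.zpow_left j).inv_right.eq
    show k * x * k⁻¹ = x.1⁻¹
    rw [h5] at h4
    calc _ = (t ^ j)⁻¹ * (t ^ j * k * x * (t ^ j * k)⁻¹) * t ^ j := by group
      _ = _ := by rw [h4, mul_assoc, ← c1]; group)
  obtain ⟨c3, c4⟩ := Sig.psl_card_three (F := F) (Nat.card_eq_fintype_card.trans hF)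
  have h7 := Sig.psl_not_real c3 c4 (y := e x) (t := e ⟨k, hk⟩) (by rw [← map_pow, ← hx, pow_orderOf_eq_one, map_one])
    (by rw [← map_inv, ← map_mul, ← map_mul, h6, map_inv])
  rw [e.map_eq_one_iff.1 h7, orderOf_one] at hx
  omega

/-- The simple normal subgroups. -/
theorem AD.simple [hM : M.Normal] (h2 : AD G 2) (h3 : AD G 3) (hs : IsSimpleGroup M) (hna : ¬ IsMulCommutative M)
    (S : Sylow 2 G) : (S : Subgroup G) ≤ M ∧ Abelem 2 (S : Subgroup G) ∧
    ((∃ (F : Type) (_ : Field F) (_ : Fintype F) (n : ℕ), Fintype.card F = 2 ^ n ∧ Nonempty (M ≃* PSL(2, F)) ∧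
      #(S : Subgroup G) = 2 ^ n ∧ (n = 2 ∨ Out (N[(S : Subgroup G)] ⧸ pPrimeCore 2 N[(S : Subgroup G)]) 2 n)) ∨
    (∃ (F : Type) (_ : Field F) (_ : Fintype F), (Fintype.card F % 8 = 3 ∨ Fintype.card F % 8 = 5) ∧
      5 ≤ Fintype.card F ∧ Nonempty (M ≃* PSL(2, F)) ∧ #(S : Subgroup G) = 4) ∨ Spor.IsoJ1 M) := by
  have hna' : ∃ a b : M, a * b ≠ b * a := by
    by_contra! h
    exact hna ⟨⟨h⟩⟩
  have ev : Even (Nat.card M) := Nat.not_odd_iff_even.1 fun h =>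
    hna ⟨⟨IsSimpleGroup.comm_iff_isSolvable.2 (FTC.solvable_of_odd h)⟩⟩
  have aS : Abelem 2 (S : Subgroup G) := by
    obtain ⟨x, -, y, -, hx, hy, hne, hc⟩ := SE.rank2_simple hna' ev
    exact h2.abelem ⟨x, trivial, y, trivial, (orderOf_coe x).trans hx, (orderOf_coe y).trans hy,
      fun h => hne (Subtype.ext h), hc.map M.subtype⟩ S.2
  have le : (S : Subgroup G) ≤ M := fun x hx => h2.mem Nat.prime_two ev.two_dvd (aS.pow hx)
  have cS : #((S.subtype le : Sylow 2 M) : Subgroup M) = #(S : Subgroup G) :=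
    Nat.card_congr (subgroupOfEquivOfLe le).toEquiv
  refine ⟨le, aS, ?_⟩
  rcases LieM.ab_simple (fun hp h ho e => AB.wj_eq hp h ho e) hna (S.subtype le) (abelem_subgroupOf M aS).abelian with
    ⟨F, _, _, n, n2, hF, e, hn⟩ | ⟨F, _, _, h4, h5, e, hn⟩ | h | h
  · refine .inl ⟨F, _, _, n, hF, e, cS ▸ hn, (n2.eq_or_lt.imp Eq.symm fun n3 => ?_)⟩
    have := sol_norm S aS.abelian
    exact loc_main S aS (fun H K h4 h5 => h2 H K (S.2.to_le h4) (abelemS h4 aS).abelian (abelemS h5 aS).abelian) n3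
      (cS ▸ hn) rfl inferInstance
  · exact .inr (.inl ⟨F, _, _, h4, h5, e, cS ▸ hn⟩)
  · exact (not_ree h3 h.1).elim
  · exact .inr (.inr h.1)

end Cfsg.Agent.Gen2.EqO
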