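import Cfsg.Agent.Gen2.EqO3
import Cfsg.Agent.S4020
import Cfsg.Agent.S3915
import Cfsg.Agent.S2065
import Cfsg.Agent.GW.Full
import Cfsg.Agent.GW.Cov
import Cfsg.Agent.ABG.SL23
import Cfsg.Agent.Small.L2Cent
import Cfsg.Agent.AutCl.PSLOut
import Cfsg.Agent.AutCl.LangPSL

/-! Groups whose `p`-subgroups of equal order are conjugate for every `p` (`EqO.PD`): odd extensions of `PSL₂(q)`
(`psl_ext`), the case of a normal `PSL₂(q)` (`PD.psl_odd`). -/

set_option autoImplicit false
set_option linter.unusedSectionVars false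

namespace Cfsg.Agent.Gen2.EqO

open Subgroup Cfsg.Agent.BG MulAction
open scoped MatrixGroups

universe u
variable {G : Type u} [Group G] [Finite G] {p : ℕ} {M : Subgroup G} {x y : G}

/-- `p`-subgroups of equal order are conjugate for every `p`. -/
def PD (G : Type*) [Group G] : Prop :=
  ∀ p : ℕ, p.Prime → ∀ H K : Subgroup G, IsPGroup p H → IsPGroup p K → Nat.card H = Nat.card K →
    ∃ g : G, K = H.map (MulAut.conj g).toMonoidHom

theorem pg_of_card {H K : Subgroup G} (hp : p.Prime) (h : IsPGroup p H) (e : Nat.card H = Nat.card K) : IsPGroup p K :=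
  have := Fact.mk hp
  let ⟨_, hn⟩ := IsPGroup.iff_card.1 h
  IsPGroup.of_card (e ▸ hn)

theorem PD.ad (h : PD G) (hp : p.Prime) : AD G p := fun H K h1 _ _ e => h p hp H K h1 (pg_of_card hp h1 e) e

theorem card_comap_eq {G' : Type*} [Group G'] [Finite G'] {f : G →* G'} (hf : Function.Surjective f)
    {H K : Subgroup G'} (e : Nat.card H = Nat.card K) : Nat.card (H.comap f) = Nat.card (K.comap f) := by
  have h1 : H.index = K.index := Nat.eq_of_mul_eq_mul_left (Nat.card_pos (α := H))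
    (by rw [card_mul_index, e, card_mul_index])
  refine Nat.eq_of_mul_eq_mul_right (Nat.pos_of_ne_zero (K.comap f).index_ne_zero_of_finite) ?_
  rw [card_mul_index, index_comap_of_surjective _ hf, ← h1, ← index_comap_of_surjective _ hf, card_mul_index]

theorem PD.map {G' : Type*} [Group G'] [Finite G'] (h : PD G) {f : G →* G'} (hf : Function.Surjective f) : PD G' := by
  intro p hp H K hH hK e
  have := Fact.mk hp
  obtain ⟨P, hP⟩ := Sylow_exists p (H.comap f)
  obtain ⟨Q, hQ⟩ := Sylow_exists p (K.comap f)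
  obtain ⟨g, hg⟩ := h p hp P Q hP.pg hQ.pg (by rw [card_Sylow hP, card_Sylow hQ, card_comap_eq hf e])
  have k : ∀ {P H}, SylowIn p P (comap f H) → IsPGroup p H → H = P.map f := fun {P H} hP hH => by
    have := pHall_map f hP
    rw [map_comap_eq_self_of_surjective hf] at this
    exact Hall_max this this.le le_rfl (IsPGroup.pi hH)
  refine ⟨f g, ?_⟩
  rw [k hP hH, k hQ hK, hg, map_map, map_map]
  congr 1
  ext x
  simp

theorem psl_ext [hM : M.Normal] (hC : C[M] = ⊥) (ho : Odd M.index) {F : Type*} [Field F] [Fintype F]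
    (e : M ≃* PSL(2, F)) : M.index ∣ Nat.card (F ≃+* F) ∧ (∀ r : ℕ, r.Prime → r ∣ M.index → ∃ x ∉ M, orderOf x = r) ∧
      ((2 : F) = 0 → M.index = Nat.card (F ≃+* F) → Nonempty (G ≃* MulAut PSL(2, F))) := by
  obtain ⟨p, _⟩ := CharP.exists F
  have := Fact.mk (CharP.char_is_prime F p)
  obtain ⟨π, hπ, hk, hf⟩ := AutCl.exists_autHom_two (F := F) (p := p)
  let ψ : G →* MulAut PSL(2, F) := (MulAut.congr e).toMonoidHom.comp MulAut.conjNormal
  have ap : ∀ g x, ψ g (e x) = e (MulAut.conjNormal g x) := fun g x => by simp [ψ, MulAut.congr]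
  have inj : Function.Injective ψ := (injective_iff_map_eq_one _).2 fun g hg => mem_bot.1 (hC ▸ BG.mem_cent.2 fun a ha => by
    have := congrArg Subtype.val (e.injective (hg ▸ (ap g ⟨a, ha⟩).symm : e _ = e ⟨a, ha⟩))
    exact (mul_inv_eq_iff_eq_mul.1 this).symm)
  have cj' : ∀ m : M, ψ m = MulAut.conj (e m) := fun m => MulEquiv.ext fun x => by
    obtain ⟨x, rfl⟩ := e.surjective x
    rw [ap, MulAut.conj_apply, ← map_inv, ← map_mul, ← map_mul]
    rfl
  have inn : ∀ g, ψ g ∈ Inn PSL(2, F) ↔ g ∈ M := fun g => ⟨fun ⟨x, hx⟩ => by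
    obtain ⟨m, rfl⟩ := e.surjective x
    exact inj (hx ▸ cj' m) ▸ m.2, fun h => ⟨_, (cj' ⟨g, h⟩).symm⟩⟩
  set D := (AutCl.outDiag : GL (Fin 2) F →* Cfsg.Out PSL(2, F)).range
  have hD : D = π.ker.map (QuotientGroup.mk' _) := by
    rw [hk, MonoidHom.map_range]; rfl
  have cD : Nat.card D = Nat.gcd 2 (Fintype.card F - 1) :=
    AutCl.card_range_outDiag (ι := Fin 2) (F := F) (p := p) (by simp)
  have nD : D.Normal := hD ▸ Normal.map inferInstance _ (QuotientGroup.mk'_surjective _)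
  have zD : D ≤ center _ := by
    rcases (Nat.dvd_prime Nat.prime_two).1 (cD ▸ Nat.gcd_dvd_left _ _ : Nat.card D ∣ 2) with h | h
    · exact (card_eq_one.1 h).trans_le bot_le
    · intro a ha
      obtain ⟨y, hy⟩ := (Nat.card_eq_two_iff' (1 : D)).1 h
      refine mem_center_iff.2 fun g => ?_
      by_cases a1 : a = 1
      · simp [a1]
      have h1 := hy.2 ⟨a, ha⟩ fun h => a1 (congrArg Subtype.val h)
      have h2 := hy.2 ⟨_, nD.conj_mem a ha g⟩ fun h => a1 (by simpa [conj_eq_one_iff] using congrArg Subtype.val h)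
      exact mul_inv_eq_iff_eq_mul.1 (congrArg Subtype.val (h2.trans h1.symm))
  have sD : ∀ a ∈ D, a ^ 2 = 1 := fun a ha => by
    have := orderOf_dvd_natCard D ha
    exact orderOf_dvd_iff_pow_eq_one.1 (this.trans (cD ▸ Nat.gcd_dvd_left _ _))
  have sq : ∀ g, (ψ g) ^ 2 * ((AutCl.fieldAut (π (ψ g)) : MulAut PSL(2, F)) ^ 2)⁻¹ ∈ Inn PSL(2, F) := fun g => by
    set φ : MulAut PSL(2, F) := AutCl.fieldAut (π (ψ g))
    have h1 : QuotientGroup.mk' (Inn PSL(2, F)) (ψ g * φ⁻¹) ∈ D :=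
      hD ▸ mem_map_of_mem _ (by simp [φ, MonoidHom.mem_ker, hf])
    have h2 := sD _ h1
    have h3 := mem_center_iff.1 (zD h1) (QuotientGroup.mk' _ φ)
    rw [← QuotientGroup.eq_one_iff, ← QuotientGroup.mk'_apply, ← h2]
    simp only [map_mul, map_inv, map_pow] at h3 ⊢
    generalize QuotientGroup.mk' (Inn PSL(2, F)) (ψ g) = a at h3 ⊢
    generalize QuotientGroup.mk' (Inn PSL(2, F)) φ = b at h3 ⊢
    have : Commute a b := by
      have : b * a * b⁻¹ = a := by simpa [mul_assoc] using h3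
      exact (mul_inv_eq_iff_eq_mul.1 this).symm
    rw [this.inv_right.mul_pow, inv_pow]
  have ker : (π.comp ψ).ker = M := le_antisymm (fun g hg => by
    have h1 := sq g
    rw [show π (ψ g) = 1 from hg, map_one, one_pow, inv_one, mul_one, ← map_pow, inn] at h1
    obtain ⟨k, hk⟩ := ho
    have h2 := M.pow_index_mem g
    rw [hk, pow_succ, pow_mul] at h2
    exact (mul_mem_cancel_left (pow_mem h1 k)).1 h2)
    fun g hg => (hk ▸ AutCl.inn_le_range_diagAut : Inn PSL(2, F) ≤ π.ker) ((inn g).2 hg)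
  have idx : M.index = Nat.card (π.comp ψ).range := by rw [← ker, index_ker]
  refine ⟨idx ▸ card_subgroup_dvd_card _, fun r hr hd => ?_, fun h2 h3 => ?_⟩
  · have := Fact.mk hr
    obtain ⟨⟨_, g, rfl⟩, hc⟩ := exists_prime_orderOf_dvd_card' r (idx ▸ hd)
    rw [← orderOf_coe] at hc
    obtain ⟨m, hm⟩ := sq g
    obtain ⟨m, rfl⟩ := e.surjective m
    have h1 : ψ (m.1⁻¹ * g ^ 2) = AutCl.fieldAut (π (ψ g) ^ 2) := by
      rw [map_mul, map_inv, cj', hm, map_pow, map_pow]; group
    have r2 : (orderOf (π (ψ g))).Coprime 2 := by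
      rw [show orderOf (π (ψ g)) = r from hc]
      exact (Odd.of_dvd_nat ho hd).coprime_two_right
    have h2 : orderOf (π (ψ g) ^ 2) = r := r2.orderOf_pow.trans hc
    refine ⟨m.1⁻¹ * g ^ 2, fun h => ?_, ?_⟩
    · replace h := ker.ge h
      rw [MonoidHom.mem_ker, MonoidHom.comp_apply, h1, hf] at h
      rw [h, orderOf_one] at h2
      exact hr.one_lt.ne h2
    · rw [← orderOf_injective ψ inj, h1, AutCl.orderOf_fieldAut (by simp), h2]
  · refine ⟨MulEquiv.ofBijective ψ ⟨inj, fun a => ?_⟩⟩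
    obtain ⟨g, hg⟩ : π a ∈ (π.comp ψ).range := (eq_top_of_card_eq _ (idx ▸ h3)).symm ▸ mem_top _
    have h1 : QuotientGroup.mk' (Inn PSL(2, F)) (a * (ψ g)⁻¹) ∈ D :=
      hD ▸ mem_map_of_mem _ (by simp [MonoidHom.mem_ker, ← hg])
    have h4 : Nat.card D = 1 := by
      rcases Classical.gcd_two_cases F with h | h
      · rw [cD, ← Nat.card_eq_fintype_card, h.2.2]
      · exact (h.1 h2).elim
    rw [card_eq_one.1 h4, mem_bot, QuotientGroup.mk'_apply, QuotientGroup.eq_one_iff] at h1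
    obtain ⟨m, hm⟩ := h1
    obtain ⟨m, rfl⟩ := e.surjective m
    exact ⟨m * g, by rw [map_mul, cj', hm, inv_mul_cancel_right]⟩

section
variable {F : Type*} [Field F] [Finite F] [hp : Fact p.Prime] [CharP F p]

theorem sol_of_psl [hM : M.Normal] (ho : Odd M.index) (e : M ≃* PSL(2, F)) {P : Subgroup G} (hP : Abelem p P)
    (h0 : P ≠ ⊥) (le : P ≤ M) : Group.IsSolvable N[P] := by
  refine sol_of_index (A := M.subgroupOf N[P]) ?_ (Odd.of_dvd_nat ho (relIndex_dvd_index_of_normal _ _))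
  obtain ⟨z, hz⟩ := (abelem_map e.toMonoidHom (abelem_subgroupOf M hP)).pg.nonempty_fixed_point_of_prime_not_dvd_card
    (Classical.P1 F) (Classical.not_char_dvd_card_P1 F p)
  have fx : ∀ y (h : y ∈ P), e ⟨y, le h⟩ • z = z := fun y h => hz ⟨_, ⟨y, le h⟩, h, rfl⟩
  obtain ⟨y, hy, y1⟩ := trivgPn.1 h0
  let ι : M.subgroupOf N[P] →* M := (N[P].subtype.comp (M.subgroupOf N[P]).subtype).codRestrict M fun x => x.2
  refine Classical.isSolvable_of_fix p ((Classical.pslι F).comp (e.toMonoidHom.comp ι))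
    (Classical.pslInj.comp (e.injective.comp fun a b h => Subtype.ext (Subtype.ext (congrArg M.subtype h)))) (z := z)
    fun g => (Classical.psl_smul_eq _ _).symm.trans ?_
  refine Classical.psl_unique_fixed p (g := e ⟨y, le hy⟩) (by simpa using y1)
    (by rw [← map_pow, e.map_eq_one_iff]; exact Subtype.ext (hP.pow hy)) ?_ (fx y hy)
  have := fx (g.1.1⁻¹ * y * g.1.1) (mem_cj.1 ((mem_norm.1 g.1.2).symm ▸ hy))
  rw [show (⟨g.1.1⁻¹ * y * g.1.1, _⟩ : M) = (ι g)⁻¹ * ⟨y, le hy⟩ * ι g from rfl, map_mul, map_mul, map_inv, mul_smul,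
    mul_smul, inv_smul_eq_iff] at this
  exact this

theorem fact_psl (p2 : p ≠ 2) {f : ℕ} (hF : Nat.card F = p ^ f) : (Nat.card PSL(2, F)).factorization p = f := by
  have f0 : f ≠ 0 := by
    rintro rfl
    exact Finite.one_lt_card.ne' hF
  have h1 : p ∣ Nat.card F := hF ▸ dvd_pow_self p f0
  have h2 : 1 < Nat.card F := Finite.one_lt_card
  have := congrArg (fun n => n.factorization p) (Classical.card_PSL2_mul (F := F))
  rw [Nat.factorization_mul (by simp) Nat.card_pos.ne', Nat.factorization_mul (by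
    exact mul_ne_zero (by omega) (by omega)) (by omega), Nat.factorization_mul (by omega) (by omega)] at this
  simp only [Finsupp.add_apply] at this
  rw [Nat.factorization_eq_zero_of_not_dvd fun h => p2 ((Nat.prime_dvd_prime_iff_eq hp.out Nat.prime_two).1
      (h.trans (Nat.gcd_dvd_left _ _))),
    Nat.factorization_eq_zero_of_not_dvd (n := Nat.card F - 1) fun h => hp.out.not_dvd_one (by
      simpa [Nat.sub_sub_self h2.le] using Nat.dvd_sub h1 h),
    Nat.factorization_eq_zero_of_not_dvd (n := Nat.card F + 1) fun h => hp.out.not_dvd_one ((Nat.dvd_add_right h1).1 h),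
    hF, Nat.factorization_pow_self hp.out] at this
  omega

theorem psl_pelt {g : PSL(2, F)} {k : ℕ} (hg : orderOf g = p ^ k) : g ^ p = 1 := by
  obtain ⟨n, n0, hF⟩ := Classical.exists_card_eq_pow F p
  have h1 : p ∣ Nat.card F := hF ▸ dvd_pow_self p n0
  have h2 : 1 < Nat.card F := Finite.one_lt_card
  rcases k with _ | k
  · rw [orderOf_eq_one_iff.1 hg, one_pow]
  have h3 : p ∣ orderOf g := hg ▸ dvd_pow_self p k.succ_ne_zero
  rcases Classical.psl_pow_eq_one_cases p g with h | h | h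
  · exact h
  · have := (h3.trans (orderOf_dvd_of_pow_eq_one h)).trans (Nat.div_dvd_of_dvd (Nat.gcd_dvd_right _ _))
    exact (hp.out.not_dvd_one (by simpa [Nat.sub_sub_self h2.le] using Nat.dvd_sub h1 this)).elim
  · have := (h3.trans (orderOf_dvd_of_pow_eq_one h)).trans (Nat.div_dvd_of_dvd (by
      rcases Classical.gcd_two_cases F with h | h <;> rw [h.2.2] <;> omega))
    exact (hp.out.not_dvd_one ((Nat.dvd_add_right h1).1 this)).elim

end

/-- The groups `L₂(p)`, `L₂(p³)`. -/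
def L2 (G : Type*) [Group G] (p : ℕ) [Fact p.Prime] : Prop :=
  Nonempty (G ≃* PSL(2, ZMod p)) ∨ Nonempty (G ≃* PSL(2, GaloisField p 3))

theorem top_of_index [hM : M.Normal] (h : PD G) (h1 : ∀ r : ℕ, r.Prime → r ∣ M.index → ∃ x ∉ M, orderOf x = r)
    (h3 : M.index ∣ 3) (h4 : 3 ∣ Nat.card M) : M = ⊤ := by
  rcases (Nat.dvd_prime Nat.prime_three).1 h3 with h2 | h2
  · exact index_eq_one.1 h2
  · obtain ⟨x, hx, x3⟩ := h1 3 Nat.prime_three (h2 ▸ dvd_rfl)
    exact (hx ((h.ad Nat.prime_three).mem Nat.prime_three h4 (x3 ▸ pow_orderOf_eq_one x))).elim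

theorem PD.psl_odd (h : PD G) [hM : M.Normal] (hC : C[M] = ⊥) (ho : Odd M.index) {F : Type*} [Field F] [Fintype F]
    (e : M ≃* PSL(2, F)) (h8 : Fintype.card F % 8 = 3 ∨ Fintype.card F % 8 = 5) :
    ∃ (p : ℕ) (_ : Fact p.Prime), (p % 8 = 3 ∨ p % 8 = 5) ∧ L2 G p := by
  obtain ⟨p, _⟩ := CharP.exists F
  have hp := Fact.mk (CharP.char_is_prime F p)
  obtain ⟨f, f0, hF⟩ := Classical.exists_card_eq_pow F p
  rw [← Nat.card_eq_fintype_card, hF] at h8
  have p2 : p ≠ 2 := by
    rintro rfl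
    have := dvd_pow_self 2 f0
    omega
  have sq : p ^ 2 % 8 = 1 := by
    obtain ⟨k, rfl⟩ := hp.out.odd_of_ne_two p2
    obtain ⟨j, hj⟩ := Nat.even_mul_succ_self k
    rw [show (2 * k + 1) ^ 2 = 4 * (k * (k + 1)) + 1 by ring, hj]
    omega
  have f2 : f ≠ 2 := by
    rintro rfl
    omega
  obtain ⟨P⟩ : Nonempty (Sylow p G) := inferInstance
  have cU : #(M ⊓ P : Subgroup G) = p ^ f := by
    rw [card_Sylow (Sylow_setI_normal (normal_top_iff.2 hM) (sylowIn_top P)), Nat.card_congr e.toEquiv, fact_psl p2 hF]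
  have pM : p ∣ Nat.card M := (cU ▸ dvd_pow_self p f0 : p ∣ _).trans (cardSg inf_le_left)
  have f13 : f = 1 ∨ f = 3 := by
    rcases S4020.result h P with h1 | h1 | ⟨⟨e1⟩⟩
    · have c1 : IsCyclic (M ⊓ P : Subgroup G) := isCyclic_of_le inf_le_right
      have := cyclic_abelem_card_dvd (p := p) (abelemP.2 ⟨IsCyclic.isMulCommutative, fun x hx => by
        obtain ⟨k, hk⟩ := IsPGroup.iff_orderOf.1 P.2 ⟨x, hx.2⟩
        have := psl_pelt (g := e ⟨x, hx.1⟩) (k := k) (by rw [e.orderOf_eq, ← hk, ← orderOf_coe, ← orderOf_coe])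
        rw [← map_pow, e.map_eq_one_iff] at this
        exact congrArg Subtype.val this⟩) c1
      rw [cU] at this
      have := (Nat.pow_dvd_pow_iff_le_right hp.out.one_lt).1 (this.trans (pow_one p).symm.dvd)
      omega
    · have h1 : Abelem p (P : Subgroup G) := h1
      have le : (P : Subgroup G) ≤ M := fun x hx => (h.ad hp.out).mem hp.out pM (h1.pow hx)
      rw [inf_eq_right.2 le] at cU
      by_contra hne
      have := sol_of_psl ho e h1 (fun h0 => by
        rw [h0, card_bot] at cU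
        exact (Nat.one_lt_pow f0 hp.out.one_lt).ne cU) le
      rcases loc_main P h1 (fun H K h4 h5 => h p hp.out H K (P.2.to_le h4) (P.2.to_le h5)) (by omega) cU rfl
        inferInstance with h2 | h2
      · exact hne (.inr h2.1)
      · exact p2 h2.2.1
    · obtain ⟨k, hk⟩ := IsPGroup.iff_card.1 P.2
      have : 2 ∣ p ^ k := by
        rw [← hk, Nat.card_congr e1.toEquiv, Nat.card_eq_fintype_card, QuaternionGroup.card]
        decide
      exact (p2 ((Nat.prime_dvd_prime_iff_eq Nat.prime_two hp.out).1 (Nat.prime_two.dvd_of_dvd_pow this)).symm).elim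
  obtain ⟨h1, h2, -⟩ := psl_ext hC ho e
  rw [AutCl.card_ringAut (p := p) (f := f) (Nat.card_eq_fintype_card.symm.trans hF)] at h1
  have hT := top_of_index h h2 (h1.trans (by rcases f13 with rfl | rfl <;> decide))
    (Nat.card_congr e.toEquiv ▸ LieM.three_dvd_PSL2 F)
  subst hT
  refine ⟨p, hp, ?_, f13.imp (fun f1 => ?_) fun f3 => ?_⟩
  · rcases f13 with rfl | rfl
    · simpa using h8
    · rwa [pow_succ, Nat.mul_mod, sq, one_mul, Nat.mod_mod] at h8
  · exact ⟨(topEquiv.symm.trans e).trans (Classical.pslCongr (FiniteField.ringEquivOfCardEq (by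
      rw [← Nat.card_eq_fintype_card, hF, f1, pow_one, ZMod.card])))⟩
  · have := Fintype.ofFinite (GaloisField p 3)
    exact ⟨(topEquiv.symm.trans e).trans (Classical.pslCongr (FiniteField.ringEquivOfCardEq (by
      rw [← Nat.card_eq_fintype_card, hF, f3, ← Nat.card_eq_fintype_card, GaloisField.card p 3 (by decide)])))⟩

end Cfsg.Agent.Gen2.EqO
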