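import Cfsg.Agent.Gen2.EqO4
import Cfsg.Agent.Block.ZStar
import Cfsg.Agent.Block.Q16
import Cfsg.Agent.Invol.ZS
import Cfsg.Agent.AB.Simp
import Cfsg.Agent.LieM.Gold6

/-! Core-free groups whose `p`-subgroups of equal order are conjugate for every `p` (`EqO.PD.core`). -/

set_option autoImplicit false
set_option linter.unusedSectionVars false

namespace Cfsg.Agent.Gen2.EqO

open Subgroup Cfsg.Agent.BG MulAction
open scoped MatrixGroups

universe u
variable {G : Type u} [Group G] [Finite G] {p : ℕ} {M : Subgroup G} {x y : G}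

theorem card_L23 : Nat.card PSL(2, ZMod 3) = 12 := by
  have := Classical.card_PSL2_mul (F := ZMod 3)
  rw [Nat.card_zmod] at this
  exact Nat.eq_of_mul_eq_mul_left two_pos this

theorem alt4_equiv : Nonempty (alternatingGroup (Fin 4) ≃* PSL(2, ZMod 3)) := by
  obtain ⟨H, ⟨e⟩⟩ := Classical.exists_alt4_PSL (F := ZMod 3) (by decide)
  have : H = ⊤ := eq_top_of_card_eq _ (by rw [Nat.card_congr e.toEquiv, Classical.card_alt4, card_L23])
  subst this
  exact ⟨e.symm.trans topEquiv⟩

theorem odd_index (S : Sylow 2 G) (h : (S : Subgroup G) ≤ M) : Odd M.index :=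
  Nat.not_even_iff_odd.1 fun h2 => S.not_dvd_index (h2.two_dvd.trans (index_dvd_of_le h))

/-- The groups with elementary abelian Sylow 2-subgroups of order at least 8. -/
def Big (G : Type*) [Group G] : Prop :=
  Nonempty (G ≃* affineGroup (GaloisField 2 3)) ∨ Nonempty (G ≃* semiaffineGroup (GaloisField 2 3)) ∨
  Nonempty (G ≃* semiaffineGroup (GaloisField 2 5)) ∨ Spor.IsoJ1 G ∨ Nonempty (G ≃* PSL(2, GaloisField 2 3)) ∨
  Nonempty (G ≃* MulAut PSL(2, GaloisField 2 5))

theorem gf_equiv {F : Type*} [Field F] [Fintype F] [Fact p.Prime] {n : ℕ} (hn : n ≠ 0) (hF : Fintype.card F = p ^ n) :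
    Nonempty (PSL(2, F) ≃* PSL(2, GaloisField p n)) :=
  have := Fintype.ofFinite (GaloisField p n)
  ⟨Classical.pslCongr (FiniteField.ringEquivOfCardEq (by
    rw [hF, ← Nat.card_eq_fintype_card, GaloisField.card p n hn]))⟩

theorem PD.elem (h : PD G) (hO : pPrimeCore 2 G = ⊥) (S : Sylow 2 G) (hS : Abelem 2 (S : Subgroup G))
    (hc : ¬ IsCyclic (S : Subgroup G)) : (#(S : Subgroup G) ≠ 4 ∧ Big G) ∨
      ∃ (p : ℕ) (_ : Fact p.Prime), (p % 8 = 3 ∨ p % 8 = 5) ∧ L2 G p := by
  have h2 := h.ad Nat.prime_two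
  have le : ∀ (M : Subgroup G) [M.Normal], 2 ∣ #M → (S : Subgroup G) ≤ M := fun M _ hM x hx =>
    h2.mem Nat.prime_two hM (hS.pow hx)
  have : Fact (Nat.Prime 5) := ⟨by decide⟩
  by_cases hP : pCore 2 G = ⊥
  · have hF : fittingSubgroup G = ⊥ := (Solv.fitting_eq_pCore hO).trans hP
    have hC : C[layer G] ≤ layer G := by
      simpa [generalizedFittingSubgroup, hF] using Sig.centralizer_fstar_le (G := G)
    have := Sig.layer_characteristic (G := G)
    have hC : C[layer G] = ⊥ := by
      have : IsMulCommutative C[layer G] := abelian_of_cent (le_cent_iff.2 fun a ha b hb =>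
        (BG.mem_cent.1 ha b (hC hb)).symm)
      exact eq_bot_iff.2 (hF ▸ Solv.le_fitting_of_isMulCommutative)
    obtain ⟨h3, h4⟩ := S3915.result (G := G) (fun p hp A B _ _ hA e => h p hp A B hA (pg_of_card hp hA e) e) fun h0 => by
      rw [h0, cent_bot] at hC
      exact hc (by rw [(hC ▸ le_top : (S : Subgroup G) ≤ ⊥).antisymm bot_le]; infer_instance)
    obtain ⟨e0⟩ := GW.quo_center_equiv hC
    obtain ⟨h5, -, h6⟩ := h2.simple (M := layer G) (h.ad Nat.prime_three) e0.symm.isSimpleGroup
      (fun h => h4 ⟨⟨fun a b => e0.injective (by rw [map_mul, map_mul, mul_comm'])⟩⟩) S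
    have ho := odd_index S h5
    rcases h6 with ⟨F, _, _, n, hF, ⟨e⟩, cS, rfl | ⟨rfl, -⟩ | ⟨rfl, -, ⟨e1⟩⟩⟩ | ⟨F, _, _, h8, -, ⟨e⟩, -⟩ | ⟨⟨e⟩⟩
    · obtain ⟨e1⟩ := Small.psl4_equiv (F := F) (Nat.card_eq_fintype_card.trans hF)
      exact .inr (h.psl_odd hC ho (e.trans e1) (by simp))
    · obtain ⟨h6, h7, -⟩ := psl_ext hC ho e
      rw [AutCl.card_ringAut hF] at h6
      have hT := top_of_index h h7 h6 (Nat.card_congr e.toEquiv ▸ LieM.three_dvd_PSL2 F)
      obtain ⟨e1⟩ := gf_equiv (by decide) hF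
      exact .inl ⟨by omega, .inr (.inr (.inr (.inr (.inl
        ⟨((topEquiv.symm.trans (MulEquiv.subgroupCongr hT.symm)).trans e).trans e1⟩))))⟩
    · obtain ⟨h6, -, h7⟩ := psl_ext hC ho e
      rw [AutCl.card_ringAut hF] at h6 h7
      obtain ⟨e2⟩ := gf_equiv (by decide) hF
      have c1 : 5 ∣ #(layer G) * (layer G).index := by
        rw [card_mul_index]
        refine Dvd.dvd.trans ?_ ((card_quotient_dvd_card (pPrimeCore 2 _)).trans (card_subgroup_dvd_card N[(S : Subgroup G)]))
        rw [Nat.card_congr e1.toEquiv, card_semiaff_gf (by decide)]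
        decide
      have c2 := Classical.card_PSL2_mul (F := F)
      rw [← Nat.card_congr e.toEquiv, Nat.card_eq_fintype_card (α := F), hF] at c2
      norm_num at c2
      have h20 : (2 : F) = 0 := by
        rcases Classical.gcd_two_cases F with h | h
        · exact h.1
        · rw [Nat.card_eq_fintype_card, hF] at h
          omega
      obtain ⟨e3⟩ := h7 h20 (((Nat.dvd_prime Nat.prime_five).1 h6).resolve_left fun h => by
        rw [c2, h] at c1
        omega)
      exact .inl ⟨by omega, .inr (.inr (.inr (.inr (.inr ⟨e3.trans (MulAut.congr e2)⟩))))⟩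
    · exact .inr (h.psl_odd hC ho e h8)
    · have c1 := (Known.card_out_congr e).trans S2065.result
      have hT : layer G = ⊤ := eq_top_iff.2 fun g _ => by
        obtain ⟨m, hm⟩ : MulAut.conjNormal g ∈ Inn (layer G) := index_eq_one.1 c1 ▸ mem_top _
        have : (m : G)⁻¹ * g ∈ C[layer G] := BG.mem_cent.2 fun a ha => by
          have := congrArg Subtype.val (DFunLike.congr_fun hm ⟨a, ha⟩)
          simp only [MulAut.conj_apply, coe_mul, coe_inv, MulAut.conjNormal_apply] at this
          calc _ = (m : G)⁻¹ * (m * a * (m : G)⁻¹) * g := by group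
            _ = _ := by rw [this]; group
        rw [hC, mem_bot, inv_mul_eq_one] at this
        exact this ▸ m.2
      have e1 : Spor.IsoJ1 G := ⟨(topEquiv.symm.trans (MulEquiv.subgroupCongr hT.symm)).trans e⟩
      refine .inl ⟨fun h4 => ?_, .inr (.inr (.inr (.inl e1)))⟩
      have := S.not_dvd_index
      have c2 := (S : Subgroup G).card_mul_index
      rw [h4, (LieM.isJ1_of_iso e1).2] at c2
      omega
  · have hT : pCore 2 G = S := (Solv.pCore_le_sylow S).antisymm (le _ (pgroup_pdiv (Solv.isPGroup_pCore 2 G) hP))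
    have : (S : Subgroup G).Normal := hT ▸ inferInstance
    have := hS.abelian
    have hs : Group.IsSolvable G := sol_of_index (Group.isSolvable_of_comm fun a b => mul_comm' a b) (odd_index S le_rfl)
    obtain ⟨n, hn⟩ := IsPGroup.iff_card.1 S.2
    rcases (show n = 0 ∨ n = 1 ∨ n = 2 ∨ 3 ≤ n by omega) with rfl | rfl | rfl | n3
    · exact (hc (by rw [card_eq_one.1 hn]; infer_instance)).elim
    · exact (hc (isCyclic_of_prime_card (p := 2) hn)).elim
    · have k4 : IsKleinFour (S : Subgroup G) := ⟨hn, (Nat.dvd_prime Nat.prime_two).1 (abelem_exponent hS) |>.resolve_left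
        fun h => by
          rw [Monoid.exp_eq_one_iff] at h
          exact hc inferInstance⟩
      obtain ⟨L, hL, hC, ⟨e⟩⟩ := GW.DihSyl.exists_A4 ⟨S, 2, le_rfl, IsKleinFour.nonempty_mulEquiv⟩ hO hs fun hG => by
        obtain ⟨x, hx⟩ := exists_prime_orderOf_dvd_card' (G := S) 2 (hn ▸ by decide)
        have hT : (S : Subgroup G) = ⊤ := (S.3 (hG.to_subgroup ⊤) le_top).symm
        have : (zpowers (x : G)).Normal := ⟨fun a ha g => by
          have := setLike_mul_comm (s := (S : Subgroup G)) (hT ▸ mem_top g) (hT ▸ mem_top a)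
          rwa [this, mul_inv_cancel_right]⟩
        have := card_le_card (le (zpowers (x : G)) (by rw [Nat.card_zpowers, orderOf_coe, hx]))
        rw [hn, Nat.card_zpowers, orderOf_coe, hx] at this
        omega
      obtain ⟨e1⟩ := alt4_equiv
      exact .inr (h.psl_odd hC (odd_index S (le L (by rw [Nat.card_congr e.toEquiv, Classical.card_alt4]; decide)))
        (e.trans e1) (by simp))
    · refine .inl ⟨fun h4 => ?_, ?_⟩
      · have := Nat.pow_le_pow_right two_pos n3
        omega
      rcases grp_main hS S.not_dvd_index hO hs hn n3 (fun H K h4 h5 => h 2 Nat.prime_two H K (S.2.to_le h4) (S.2.to_le h5))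
        with ⟨-, -, h3⟩ | ⟨-, -, h3⟩
      · exact (h3 rfl).elim (fun h => .inr (.inl h)) .inl
      · exact .inr (.inr (.inl h3))

theorem cyc_core (hO : pPrimeCore 2 G = ⊥) (S : Sylow 2 G) (hc : IsCyclic (S : Subgroup G)) :
    IsCyclic G ∧ IsPGroup 2 G := by
  obtain ⟨P, N, hN, h⟩ := Block.complement_of_isCyclic S
  have h1 : N = ⊥ := Solv.eq_bot_of_pPrimeCore_eq_bot hO (by
    rw [← h.index_eq_card]
    exact (odd_index P le_rfl).coprime_two_right)
  subst h1
  have h2 : (P : Subgroup G) = ⊤ := by simpa using h.sup_eq_top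
  have e : (S : Subgroup G) ≃* G := ((S.equiv P).trans (MulEquiv.subgroupCongr h2)).trans topEquiv
  exact ⟨isCyclic_of_surjective e e.surjective, S.2.of_equiv e⟩

theorem PD.core (h : PD G) (hO : pPrimeCore 2 G = ⊥) : (IsCyclic G ∧ IsPGroup 2 G) ∨ Big G ∨
    ∃ (p : ℕ) (_ : Fact p.Prime), (p % 8 = 3 ∨ p % 8 = 5) ∧ (L2 G p ∨ (L2 (G ⧸ center G) p ∧
      (Nonempty (G ≃* SL(2, ZMod p)) ∨ Nonempty (G ≃* SL(2, GaloisField p 3))))) := by
  obtain ⟨S⟩ : Nonempty (Sylow 2 G) := inferInstance
  by_cases hc : IsCyclic (S : Subgroup G)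
  · exact .inl (cyc_core hO S hc)
  rcases S4020.result h S with h1 | h1 | ⟨⟨e⟩⟩
  · exact (hc h1).elim
  · exact .inr ((h.elem hO S h1 hc).imp (·.2) fun ⟨p, i, h1, h2⟩ => ⟨p, i, h1, .inl h2⟩)
  have hZ := Block.card_center_of_quaternion S (n := 0) e hO
  have pZ : IsPGroup 2 (center G) := IsPGroup.of_card (n := 1) hZ
  have hO' := Invol.pPrimeCore_quotient_central hO (center G) le_rfl pZ
  have h' := h.map (QuotientGroup.mk'_surjective (center G))
  have cS : #(S : Subgroup G) = 8 := by
    rw [Nat.card_congr e.toEquiv, Nat.card_eq_fintype_card, QuaternionGroup.card]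
  have na : ¬ IsMulCommutative G := fun hG => by
    have : e (e.symm (.a 1) * e.symm (.xa 0)) = e (e.symm (.xa 0) * e.symm (.a 1)) := by rw [mul_comm']
    simp only [map_mul, MulEquiv.apply_symm_apply] at this
    exact absurd this (by decide)
  obtain ⟨T⟩ : Nonempty (Sylow 2 (G ⧸ center G)) := inferInstance
  have cG : Nat.card G = Nat.card (G ⧸ center G) * 2 := hZ ▸ card_eq_card_quotient_mul_card_subgroup _
  have cT : #(T : Subgroup (G ⧸ center G)) = 4 := by
    rw [S.card_eq_multiplicity, cG, Nat.factorization_mul Nat.card_pos.ne' two_ne_zero, Finsupp.add_apply,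
      Nat.prime_two.factorization_self, pow_succ, ← T.card_eq_multiplicity] at cS
    omega
  have hc' : ¬ IsCyclic (T : Subgroup (G ⧸ center G)) := fun hT => by
    have := (cyc_core hO' T hT).1
    exact na ((QuotientGroup.mk' (center G)).isMulCommutative_of_isCyclic_of_ker_le_center (by simp))
  have aT : Abelem 2 (T : Subgroup (G ⧸ center G)) := by
    rcases S4020.result h' T with h1 | h1 | ⟨⟨e⟩⟩
    · exact (hc' h1).elim
    · exact h1
    · rw [Nat.card_congr e.toEquiv, Nat.card_eq_fintype_card, QuaternionGroup.card] at cT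
      omega
  obtain ⟨p, i, h8, hL⟩ := (h'.elem hO' T aT hc').resolve_left fun h => h.1 cT
  have zc : center G ≤ commutator G := fun z hz => (h.ad Nat.prime_two).mem Nat.prime_two (by
    by_contra h2
    exact na ((commutator_eq_bot_iff _).1 (Solv.eq_bot_of_pPrimeCore_eq_bot hO
      ((Nat.prime_two.coprime_iff_not_dvd.2 h2).symm)))) (by
    simpa [hZ] using congrArg Subtype.val (pow_card_eq_one' (G := center G) (x := ⟨z, hz⟩)))
  have lift : ∀ (F : Type) [Field F] [Finite F], Odd (Nat.card F) → 3 < Nat.card F → (G ⧸ center G ≃* PSL(2, F)) →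
      Nonempty (G ≃* SL(2, F)) := fun F _ _ o3 h3 e1 => by
    let ξ : G →* PSL(2, F) := e1.toMonoidHom.comp (QuotientGroup.mk' _)
    have sj : Function.Surjective ξ := e1.surjective.comp (QuotientGroup.mk'_surjective _)
    have hk : ξ.ker = center G := by
      ext x
      simp [ξ]
    have := GW.perfect_SL2 h3
    have hp : Group.IsPerfect PSL(2, F) := Group.IsPerfect.ofSurjective (QuotientGroup.mk'_surjective _)
    have : Group.IsPerfect G := ⟨by
      have h1 : (commutator G).map ξ = ⊤ := by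
        rw [map_commutator_eq, MonoidHom.range_eq_top.2 sj]
        exact hp.commutator_eq_top
      rw [← sup_eq_left.2 zc, ← hk, ← comap_map_eq, h1, comap_top]⟩
    exact GW.equiv_SL2_of_double (Classical.two_ne_zero_iff_odd.2 o3) h3 ⟨sj, hk.le⟩ (hk ▸ hZ)
  have po : Odd p := Nat.odd_iff.2 (by omega)
  refine .inr (.inr ⟨p, i, h8, .inr ⟨hL, hL.imp (fun ⟨e1⟩ => ?_) fun ⟨e1⟩ => lift _ ?_ ?_ e1⟩⟩)
  · by_cases p3 : p = 3
    · subst p3
      rw [Nat.card_congr e1.toEquiv, card_L23] at cG
      obtain ⟨U, -, h1, ⟨e2⟩⟩ := ABG.sol_SL23 (Classical.isSolvable_of_card_dvd_24 (cG ▸ dvd_rfl)) hO (fun hG => by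
        obtain ⟨k, hk⟩ := IsPGroup.iff_card.1 hG
        exact absurd (Nat.prime_three.dvd_of_dvd_pow (hk ▸ cG ▸ by decide : 3 ∣ 2 ^ k)) (by decide)) S
        (x := e.symm (.a 1)) (by
          have h1 := card_mul_relIndex (zpowers_le.2 (e.symm (.a 1)).2)
          rw [Nat.card_zpowers, orderOf_coe, e.symm.orderOf_eq, QuaternionGroup.orderOf_a_one, cS] at h1
          exact Dvd.intro 1 (by omega)) (fun h => by rw [h, card_bot] at hZ; omega)
      have hT : U = ⊤ := eq_top_of_card_eq _ (by rw [Nat.card_congr e2.toEquiv, Classical.card_SL23 (by simp), cG])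
      exact ⟨(topEquiv.symm.trans (MulEquiv.subgroupCongr hT.symm)).trans e2⟩
    · exact lift _ (by rwa [Nat.card_zmod]) (by rw [Nat.card_zmod]; omega) e1
  · rw [GaloisField.card p 3 (by decide)]
    exact po.pow
  · rw [GaloisField.card p 3 (by decide)]
    exact lt_of_lt_of_le (by decide) (Nat.pow_le_pow_left i.out.two_le 3)

end Cfsg.Agent.Gen2.EqO
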