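import Cfsg.Agent.Perm.FpfPerfect
import Cfsg.Agent.Perm.AutAlt
import Cfsg.Agent.Invol.OddAut
import Cfsg.Agent.PLocal.Basic
import Cfsg.Agent.BG.Base4
import Cfsg.Agent.Gen2.Cyc

/-! Structure of Frobenius complements: a normal Z-subgroup with quotient `1`, `V₄`, `A₄`, `S₄`, `A₅` or `S₅`. -/

set_option autoImplicit false

namespace Cfsg.Agent.Gen2

open Subgroup Cfsg.Agent.BG Equiv

variable {G : Type*} [Group G]

theorem eight_dvd_card_quat {P : Type*} [Group P] {n : ℕ} (hn : n ≠ 0) (e : P ≃* QuaternionGroup (2 ^ n)) :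
    8 ∣ Nat.card P := by
  rw [Nat.card_congr e.toEquiv, Nat.card_eq_fintype_card, QuaternionGroup.card]
  obtain ⟨k, rfl⟩ := Nat.exists_eq_succ_of_ne_zero hn
  exact ⟨2 ^ k, by rw [Nat.succ_eq_add_one]; ring⟩

theorem IsFC.isZGroup_of_cyclic (h : IsFC G) {N : Subgroup G}
    (hN : ∀ P ≤ N, IsPGroup 2 P → IsCyclic P) : IsZGroup N := by
  have := h.finite
  refine ⟨fun p hp P => ?_⟩
  have := Fact.mk hp
  let e := (P : Subgroup N).equivMapOfInjective N.subtype N.subtype_injective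
  have hc : IsCyclic ((P : Subgroup N).map N.subtype) := by
    rcases h.isCyclic_or_quaternion (P.isPGroup'.map N.subtype) with hc | ⟨rfl, -⟩
    · exact hc
    · exact hN _ (map_subtype_le _) (P.isPGroup'.map N.subtype)
  exact isCyclic_of_surjective e.symm e.symm.surjective

theorem IsFC.isZGroup_of_not_eight (h : IsFC G) {N : Subgroup G} (hN : ¬ 8 ∣ Nat.card N) : IsZGroup N :=
  h.isZGroup_of_cyclic fun P hP h2 => by
    have := h.finite
    have := Nat.fact_prime_two
    rcases h.isCyclic_or_quaternion h2 with hc | ⟨-, n, hn, ⟨e⟩⟩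
    · exact hc
    · exact absurd ((eight_dvd_card_quat hn e).trans (cardSg hP)) hN

theorem exists_hom_perm_of_index {α : Type*} [Fintype α] [DecidableEq α] (f : G →* Perm α)
    (h : f.range.index ≤ 2) :
    (∃ g : G →* alternatingGroup α, Function.Surjective g ∧ g.ker = f.ker) ∨
      (∃ g : G →* Perm α, Function.Surjective g ∧ g.ker = f.ker) := by
  have h0 := f.range.index_ne_zero_of_finite
  rcases (by omega : f.range.index = 1 ∨ f.range.index = 2) with h1 | h1
  · exact Or.inr ⟨f, MonoidHom.range_eq_top.1 (index_eq_one.1 h1), rfl⟩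
  · have h2 := Perm.eq_alternatingGroup_of_index_eq_two h1
    refine Or.inl ⟨f.codRestrict _ fun g => h2.le ⟨g, rfl⟩, fun u => ?_, MonoidHom.ker_codRestrict _ _ _⟩
    obtain ⟨g, hg⟩ := h2.ge u.2
    exact ⟨g, Subtype.ext hg⟩

theorem exists_hom_of_normal_alt {α : Type*} [Fintype α] [DecidableEq α] (h4 : 4 ≤ Fintype.card α)
    (h6 : Fintype.card α ≠ 6) {S : Subgroup G} [S.Normal] (θ : S →* Perm α)
    (hθ : θ.range = alternatingGroup α)
    (hk : ∀ (g : G) (s : S), θ s = 1 → θ (MulAut.conjNormal g s) = 1) :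
    ∃ f : G →* Perm α, alternatingGroup α ≤ f.range := by
  let θ' : S →* alternatingGroup α := θ.codRestrict _ fun g => hθ.le ⟨g, rfl⟩
  have hs : Function.Surjective θ' := fun u => by
    obtain ⟨g, hg⟩ := hθ.ge u.2
    exact ⟨g, Subtype.ext hg⟩
  let e := QuotientGroup.quotientKerEquivOfSurjective θ' hs
  have hk' : ∀ g : G, θ'.ker ≤ θ'.ker.comap (MulAut.conjNormal g : MulAut S).toMonoidHom := fun g s hs' =>
    Subtype.ext (hk g s (congrArg Subtype.val hs'))
  let m : G → (S ⧸ θ'.ker →* S ⧸ θ'.ker) := fun g => QuotientGroup.map _ _ _ (hk' g)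
  have hm : ∀ g (s : S), m g s = (MulAut.conjNormal g s : S) := fun g s => rfl
  have hmul : ∀ g g' x, m (g * g') x = m g (m g' x) := fun g g' x => by
    obtain ⟨s, rfl⟩ := QuotientGroup.mk_surjective x
    rw [hm, hm, hm, map_mul]; rfl
  have hone : ∀ x, m 1 x = x := fun x => by
    obtain ⟨s, rfl⟩ := QuotientGroup.mk_surjective x
    rw [hm, map_one]; rfl
  let ψ : G →* MulAut (S ⧸ θ'.ker) :=
    { toFun := fun g =>
        { toFun := m g
          invFun := m g⁻¹
          left_inv := fun x => by rw [← hmul, inv_mul_cancel, hone]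
          right_inv := fun x => by rw [← hmul, mul_inv_cancel, hone]
          map_mul' := map_mul _ }
      map_one' := MulEquiv.ext hone
      map_mul' := fun g g' => MulEquiv.ext (hmul g g') }
  let c := MulEquiv.ofBijective _ (Perm.AutAlt.conjNormal_bijective h4 h6)
  refine ⟨c.symm.toMonoidHom.comp ((MulAut.congr e).toMonoidHom.comp ψ), fun u hu => ?_⟩
  obtain ⟨s, hs'⟩ := hθ.ge hu
  refine ⟨s, ?_⟩
  change c.symm (MulAut.congr e (ψ s)) = u
  rw [MulEquiv.symm_apply_eq]
  ext1 v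
  obtain ⟨t, rfl⟩ := hs v
  have h1 : ∀ t : S, e t = θ' t := fun t => rfl
  have h2 : e.symm (θ' t) = t := by rw [MulEquiv.symm_apply_eq, h1]
  change e (m s (e.symm (θ' t))) = MulAut.conjNormal u (θ' t)
  rw [h2, hm, h1]
  apply Subtype.ext
  change θ (MulAut.conjNormal (s : G) t) = u * θ t * u⁻¹
  rw [← hs', ← map_inv, ← map_mul, ← map_mul]
  rfl

theorem IsFC.struct_nonsolvable (h : IsFC G) (hns : ¬ Group.IsSolvable G) :
    ∃ f : G →* Perm (Fin 5), f.range.index ≤ 2 ∧ IsZGroup f.ker := by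
  have := h.finite
  obtain ⟨S, _, θ, hθ, h5, ⟨e⟩⟩ := Perm.exists_SL25_of_not_isSolvable h hns
  obtain ⟨M, -, h2, h3, h4, -, h7⟩ := Perm.structure_of_SL25 h θ hθ h5 e
  obtain ⟨f, hf⟩ := exists_hom_of_normal_alt (by simp) (by simp) θ h5 fun g s hs => by
    rw [hθ] at hs ⊢; rw [← map_pow, hs, map_one]
  have h8 := index_dvd_of_le hf
  rw [alternatingGroup.index_eq_two] at h8
  refine ⟨f, Nat.le_of_dvd two_pos h8, h.isZGroup_of_not_eight fun h9 => ?_⟩
  have h10 := cardSg hf
  have h11 : Nat.card (alternatingGroup (Fin 5)) = 60 := by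
    have := (alternatingGroup (Fin 5)).card_mul_index
    rw [alternatingGroup.index_eq_two, Nat.card_perm] at this
    simp [Nat.factorial] at this ⊢
    omega
  have h12 := f.ker.card_mul_index
  rw [index_ker] at h12
  have h13 : 32 ∣ Nat.card G := by
    rw [← h12]
    exact Nat.mul_dvd_mul h9 ((show 4 ∣ 60 by norm_num).trans (h11 ▸ h10))
  have h14 := (S ⊔ M).card_mul_index
  have h15 : Nat.card S = 120 := by
    rw [Nat.card_congr e.toEquiv, Nat.card_eq_fintype_card]; decide +kernel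
  rw [card_sup_TI (Or.inr (norm_of_normal _ _)) h3, h15] at h14
  have h16 : ¬ 2 ∣ Nat.card M := fun h => by
    have := Nat.Coprime.coprime_dvd_left h h7
    norm_num at this
  have h0 := (S ⊔ M).index_ne_zero_of_finite
  rcases (by omega : (S ⊔ M).index = 1 ∨ (S ⊔ M).index = 2) with h1 | h1 <;> rw [h1] at h14 <;> omega

/-- The map of a generalised quaternion group onto the four-group. -/
def quatToFour (n : ℕ) : QuaternionGroup (2 * n) →* DihedralGroup 2 where
  toFun x := match x with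
    | .a i => .r (ZMod.castHom (show 2 ∣ 2 * (2 * n) from dvd_mul_right _ _) (ZMod 2) i)
    | .xa i => .sr (ZMod.castHom (show 2 ∣ 2 * (2 * n) from dvd_mul_right _ _) (ZMod 2) i)
  map_one' := by
    change DihedralGroup.r (ZMod.castHom _ (ZMod 2) 0) = 1
    rw [map_zero]; rfl
  map_mul' x y := by
    rcases x with i | i <;> rcases y with j | j
    · simp only [QuaternionGroup.a_mul_a, map_add, DihedralGroup.r_mul_r]
    · simp only [QuaternionGroup.a_mul_xa, map_sub, DihedralGroup.r_mul_sr]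
    · simp only [QuaternionGroup.xa_mul_a, map_add, DihedralGroup.sr_mul_r]
    · simp only [QuaternionGroup.xa_mul_xa, map_sub, map_add, DihedralGroup.sr_mul_sr, map_natCast]
      congr 2
      rw [add_eq_right, ZMod.natCast_eq_zero_iff]
      exact dvd_mul_right _ _

theorem quatToFour_surjective (n : ℕ) : Function.Surjective (quatToFour n) := by
  rintro (i | i)
  · obtain ⟨j, rfl⟩ := ZMod.castHom_surjective (show 2 ∣ 2 * (2 * n) from dvd_mul_right _ _) i
    exact ⟨.a j, rfl⟩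
  · obtain ⟨j, rfl⟩ := ZMod.castHom_surjective (show 2 ∣ 2 * (2 * n) from dvd_mul_right _ _) i
    exact ⟨.xa j, rfl⟩

theorem quat_cases {n : ℕ} [NeZero n] (x : QuaternionGroup n) :
    ∃ k : ℕ, x = .a 1 ^ k ∨ x = .xa 0 * .a 1 ^ k := by
  rcases x with i | i
  · exact ⟨i.val, Or.inl (by simp)⟩
  · exact ⟨i.val, Or.inr (by simp)⟩

theorem quatToFour_ker (n : ℕ) [NeZero n] : (quatToFour n).ker ≤ zpowers (.a 1) := by
  rintro (i | i) h
  · rw [show QuaternionGroup.a i = .a 1 ^ i.val by simp]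
    exact pow_mem (mem_zpowers _) _
  · exact nomatch (show DihedralGroup.sr _ = DihedralGroup.r 0 from h)

theorem index_zpowers_quat {n : ℕ} [NeZero n] : (zpowers (.a 1 : QuaternionGroup n)).index = 2 := by
  have := (zpowers (.a 1 : QuaternionGroup n)).card_mul_index
  rw [Nat.card_zpowers, QuaternionGroup.orderOf_a_one, Nat.card_eq_fintype_card, QuaternionGroup.card] at this
  have := NeZero.pos n
  nlinarith

theorem exists_lift_pgroup [Finite G] {H : Type*} [Group H] {p : ℕ} [Fact p.Prime] {f : G →* H}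
    (hf : Function.Surjective f) (hk : ¬ p ∣ Nat.card f.ker) {R : Subgroup H} (hR : IsPGroup p R) :
    ∃ P : Subgroup G, IsPGroup p P ∧ Nonempty (P ≃* R) := by
  have : Finite H := Finite.of_surjective f hf
  obtain ⟨T', hT'⟩ := hR.exists_le_sylow
  obtain ⟨T, rfl⟩ := Sylow.mapSurjective_surjective hf p T'
  refine ⟨T ⊓ R.comap f, T.isPGroup'.to_inf_left, ⟨MulEquiv.ofBijective
    ((f.comp (Subgroup.subtype _)).codRestrict R fun x => (mem_inf.1 x.2).2) ⟨?_, fun r => ?_⟩⟩⟩
  · rw [injective_iff_map_eq_one]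
    intro x hx
    have h1 : (x : G) ∈ f.ker := congrArg Subtype.val hx
    obtain ⟨k, hk'⟩ := pElt_of_mem T.isPGroup' x.2.1
    have h2 := orderOf_dvd_cardG h1
    rw [hk'] at h2
    rcases k with - | k
    · exact Subtype.ext (orderOf_eq_one_iff.1 hk')
    · exact absurd ((dvd_pow_self p k.succ_ne_zero).trans h2) hk
  · obtain ⟨t, ht, e⟩ := hT' r.2
    exact ⟨⟨t, mem_inf.2 ⟨ht, by rw [mem_comap, e]; exact r.2⟩⟩, Subtype.ext e⟩

/-- A solvable group with `O(H) = 1` whose `2`-subgroups are cyclic or quaternion is a `2`-group or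
maps onto `A₄` or `S₄` with kernel of order dividing four. -/
theorem exists_perm4_of_quat {H : Type*} [Group H] [Finite H] (hs : Group.IsSolvable H)
    (hO : pPrimeCore 2 H = ⊥) (h2 : ¬ IsPGroup 2 H)
    (hq : ∀ P : Subgroup H, IsPGroup 2 P → IsCyclic P ∨ ∃ n : ℕ, n ≠ 0 ∧ Nonempty (P ≃* QuaternionGroup (2 ^ n))) :
    ∃ f : H →* Perm (Fin 4), f.range.index ≤ 2 ∧ Nat.card f.ker ∣ 4 := by
  have := Nat.fact_prime_two
  have := Nat.fact_prime_three
  set R := pCore 2 H with hR
  have hRp : IsPGroup 2 R := Solv.isPGroup_pCore 2 H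
  have hC : centralizer (R : Set H) ≤ R := by
    have := cent_sub_pcore (p := 2) (M := (⊤ : Subgroup H)) inferInstance (by rw [Op'_top, hO])
    rwa [Op_top, top_inf_eq] at this
  obtain ⟨g, hg, hg1⟩ : ∃ g : H, Odd (orderOf g) ∧ g ≠ 1 := by
    by_contra hcon
    push Not at hcon
    refine h2 (IsPGroup.iff_card.2 ⟨_, Nat.eq_prime_pow_of_unique_prime_dvd Nat.card_pos.ne' fun {q} hq hd => ?_⟩)
    by_contra hne
    have := Fact.mk hq
    obtain ⟨x, hx⟩ := exists_prime_orderOf_dvd_card' q hd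
    have := hcon x (hx ▸ hq.odd_of_ne_two hne)
    rw [this, orderOf_one] at hx
    exact hq.one_lt.ne hx
  have hgn : g ∈ normalizer (R : Set H) := norm_of_normal R ⊤ trivial
  have hne : ∃ a, Invol.conjEnd R hgn a ≠ a := by
    by_contra hcon
    push Not at hcon
    have h3 : g ∈ R := hC fun r hr => by
      have := congrArg Subtype.val (hcon ⟨r, hr⟩)
      rw [Invol.coe_conjEnd, mul_inv_eq_iff_eq_mul] at this
      exact this.symm
    obtain ⟨k, hk⟩ := pElt_of_mem hRp h3
    rcases k with - | k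
    · exact hg1 (orderOf_eq_one_iff.1 hk)
    · rw [hk, pow_succ] at hg; exact absurd hg (by simp)
  obtain ⟨c, hc⟩ : ∃ c : R, (zpowers c).index ∣ 2 := by
    rcases hq R hRp with hc | ⟨n, -, ⟨e⟩⟩
    · obtain ⟨c, hc⟩ := hc.exists_generator
      exact ⟨c, by rw [(eq_top_iff' _).2 hc]; simp⟩
    · refine ⟨e.symm (.a 1), ?_⟩
      rw [← index_map_equiv _ e, MonoidHom.map_zpowers]
      simp [index_zpowers_quat]
  obtain ⟨e⟩ : Nonempty (R ≃* QuaternionGroup 2) := by
    refine (Invol.four_or_quat_of_cyclic_index hRp hc (Invol.oddEnd_conjEnd R hgn hg) hne).resolve_left fun h4 => ?_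
    rcases hq R hRp with hc | ⟨n, hn, ⟨e⟩⟩
    · exact IsKleinFour.not_isCyclic hc
    · have := eight_dvd_card_quat hn e
      rw [h4.card_four] at this; omega
  obtain ⟨i, j, hij⟩ := Invol.exists_quat e
  have h6 := (Invol.threePt_quat hij).dvd_six
  rw [sup_eq_left.2 hC, normalizer_eq_top, relIndex_top_right] at h6
  have h48 : Nat.card H ∣ 48 := by
    rw [← R.card_mul_index, hij.card]; exact Nat.mul_dvd_mul_left 8 h6
  have h8 : 8 ∣ Nat.card H := hij.card ▸ card_subgroup_dvd_card R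
  have h3 : 3 ∣ Nat.card H := by
    by_contra h3
    refine h2 (IsPGroup.iff_card.2 ⟨_, Nat.eq_prime_pow_of_unique_prime_dvd Nat.card_pos.ne' fun {q} hq hd => ?_⟩)
    have h4 := hd.trans h48
    have := Nat.le_of_dvd (by norm_num) h4
    interval_cases q <;> simp_all (config := {decide := true})
  obtain ⟨P⟩ : Nonempty (Sylow 3 H) := inferInstance
  have hPn : ¬ (P : Subgroup H).Normal := fun hn => by
    have h4 := PLocal.le_pPrimeCore (p := 2) hn (by
      obtain ⟨k, hk⟩ := P.isPGroup'.exists_card_eq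
      rw [hk]; exact Nat.Coprime.pow_left _ (by norm_num))
    exact P.ne_bot_of_dvd_card h3 (le_bot_iff.1 (hO ▸ h4))
  have hz : i * i ∈ center H := mem_center_iff.2 fun x => by
    have h1 : x * (i * i) * x⁻¹ ∈ R := Normal.conj_mem inferInstance _ (mul_mem hij.i_mem hij.i_mem) x
    rcases hij.sq_of_mem h1 with h | h | h
    · exact absurd (by simpa using h) hij.ii
    · exact mul_inv_eq_iff_eq_mul.1 h
    · rw [show x * (i * i) * x⁻¹ * (x * (i * i) * x⁻¹) = x * (i * i * (i * i)) * x⁻¹ by group, hij.i4] at h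
      exact absurd (by simpa using h.symm) hij.ii
  have hN6 : 6 ∣ Nat.card (normalizer ((P : Subgroup H) : Set H)) := by
    refine Nat.Coprime.mul_dvd_of_dvd_of_dvd (m := 2) (n := 3) (by norm_num) ?_ ?_
    · have := orderOf_dvd_cardG (center_le_normalizer (P : Subgroup H) hz)
      rwa [orderOf_eq_prime (p := 2) (by rw [pow_two]; exact hij.i4) hij.ii] at this
    · exact (P.dvd_card_of_dvd_card h3).trans (cardSg (normG _))
  have hn4 : Nat.card (Sylow 3 H) = 4 := by
    have h1 : Nat.card (Sylow 3 H) = (normalizer ((P : Subgroup H) : Set H)).index := P.card_eq_index_normalizer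
    have h4 := card_sylow_modEq_one 3 H
    have h5 : Nat.card (Sylow 3 H) ≠ 1 := fun h => hPn (by
      rw [← normalizer_eq_top_iff, ← index_eq_one, ← h1, h])
    have h7 : 6 * Nat.card (Sylow 3 H) ∣ 48 := by
      refine dvd_trans ?_ h48
      rw [← (normalizer ((P : Subgroup H) : Set H)).card_mul_index, h1]
      exact Nat.mul_dvd_mul_right hN6 _
    have h9 : Nat.card (Sylow 3 H) ∣ 8 := Nat.dvd_of_mul_dvd_mul_left (by norm_num : 0 < 6) h7
    have := Nat.le_of_dvd (by norm_num) h9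
    unfold Nat.ModEq at h4
    generalize Nat.card (Sylow 3 H) = m at h4 h5 h9 this
    interval_cases m <;> omega
  let φ := MulAction.toPermHom H (Sylow 3 H)
  let f : H →* Perm (Fin 4) := (Finite.equivFinOfCardEq hn4).permCongrHom.toMonoidHom.comp φ
  have hker : f.ker = φ.ker := MonoidHom.ker_comp_of_injective _ _ (MulEquiv.injective _)
  have hKN : f.ker ≤ normalizer ((P : Subgroup H) : Set H) := fun x hx => by
    rw [hker] at hx
    exact Sylow.smul_eq_iff_mem_normalizer.1 (DFunLike.congr_fun hx P)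
  have hK3 : ¬ 3 ∣ Nat.card f.ker := fun h => by
    have h1 : (P : Subgroup H) ≤ f.ker := by
      have h4 := not_dvd_relIndex_sylow P f.ker
      have h5 := card_inf_mul_relIndex (P : Subgroup H) f.ker
      have h7 : 3 ∣ Nat.card ((P : Subgroup H) ⊓ f.ker : Subgroup H) :=
        ((Nat.prime_three.dvd_mul).1 (h5 ▸ h)).resolve_right h4
      have h9 : Nat.card (P : Subgroup H) ≤ 3 := by
        obtain ⟨k, hk⟩ := P.isPGroup'.exists_card_eq
        have h10 := (card_subgroup_dvd_card (P : Subgroup H)).trans h48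
        rw [hk] at h10 ⊢
        by_contra h11
        have : 3 ^ 2 ∣ 3 ^ k := pow_dvd_pow _ (by
          by_contra h12
          interval_cases k <;> simp at h11)
        have := this.trans h10
        omega
      exact inf_eq_left.1 (eq_of_card_le inf_le_left (h9.trans (Nat.le_of_dvd (cardG_pos _) h7)))
    have h4 : normalizer ((P : Subgroup H) : Set H) ⊔ f.ker = ⊤ := Sylow.normalizer_sup_eq_top' P h1
    rw [sup_eq_left.2 hKN, normalizer_eq_top_iff] at h4
    exact hPn h4
  have hi := f.ker.card_mul_index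
  have h12 : 12 ∣ f.ker.index := by
    refine Nat.Coprime.mul_dvd_of_dvd_of_dvd (m := 4) (n := 3) (by norm_num) ?_ ?_
    · have := index_dvd_of_le hKN
      rwa [← show Nat.card (Sylow 3 H) = (normalizer ((P : Subgroup H) : Set H)).index from
        P.card_eq_index_normalizer, hn4] at this
    · exact (Nat.prime_three.dvd_mul.1 (hi ▸ h3)).resolve_left hK3
  refine ⟨f, ?_, ?_⟩
  · have h1 := f.range.card_mul_index
    rw [← index_ker, Nat.card_perm] at h1
    simp only [Nat.card_eq_fintype_card, Fintype.card_fin, Nat.factorial] at h1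
    have := Nat.le_of_dvd (Nat.pos_of_ne_zero f.ker.index_ne_zero_of_finite) h12
    nlinarith
  · have : Nat.card f.ker * 12 ∣ 4 * 12 := (Nat.mul_dvd_mul_left _ h12).trans (hi ▸ h48)
    exact Nat.dvd_of_mul_dvd_mul_right (by norm_num) this

theorem IsFC.struct_solvable (h : IsFC G) (hs : Group.IsSolvable G) :
    IsZGroup G ∨ (∃ f : G →* DihedralGroup 2, Function.Surjective f ∧ IsZGroup f.ker) ∨
      ∃ f : G →* Perm (Fin 4), f.range.index ≤ 2 ∧ IsZGroup f.ker := by
  have := h.finite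
  have := Nat.fact_prime_two
  have := PLocal.pPrimeCore_characteristic 2 G
  let π := QuotientGroup.mk' (pPrimeCore 2 G)
  have hπ : Function.Surjective π := QuotientGroup.mk'_surjective _
  have hk : ¬ 2 ∣ Nat.card π.ker := by
    rw [QuotientGroup.ker_mk']
    exact (Nat.Prime.coprime_iff_not_dvd Nat.prime_two).1 (PLocal.coprime_pPrimeCore 2 G).symm
  have hq : ∀ P : Subgroup (G ⧸ pPrimeCore 2 G), IsPGroup 2 P →
      IsCyclic P ∨ ∃ n : ℕ, n ≠ 0 ∧ Nonempty (P ≃* QuaternionGroup (2 ^ n)) := fun P hP => by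
    obtain ⟨Q, hQ, ⟨e⟩⟩ := exists_lift_pgroup hπ hk hP
    rcases h.isCyclic_or_quaternion hQ with hc | ⟨-, n, hn, ⟨e'⟩⟩
    · exact Or.inl (isCyclic_of_surjective e e.surjective)
    · exact Or.inr ⟨n, hn, ⟨e.symm.trans e'⟩⟩
  have hcyc : ∀ (N : Subgroup G) (C : Subgroup (G ⧸ pPrimeCore 2 G)), IsCyclic C → N ≤ C.comap π → IsZGroup N :=
    fun N C hC hN => h.isZGroup_of_cyclic fun P hP h2 => by
      refine isCyclic_of_injective ((π.comp P.subtype).codRestrict C fun x => hN (hP x.2)) ?_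
      rw [injective_iff_map_eq_one]
      intro x hx
      have h1 : (x : G) ∈ π.ker := congrArg Subtype.val hx
      obtain ⟨k, hk'⟩ := pElt_of_mem h2 x.2
      have h2 := orderOf_dvd_cardG h1
      rw [hk'] at h2
      rcases k with - | k
      · exact Subtype.ext (orderOf_eq_one_iff.1 hk')
      · exact absurd ((dvd_pow_self 2 k.succ_ne_zero).trans h2) hk
  by_cases h2 : IsPGroup 2 (G ⧸ pPrimeCore 2 G)
  · rcases hq ⊤ (h2.to_subgroup _) with hc | ⟨n, hn, ⟨e⟩⟩
    · have := hcyc ⊤ ⊤ hc le_top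
      exact Or.inl (IsZGroup.of_surjective (f := (⊤ : Subgroup G).subtype) fun x => ⟨⟨x, trivial⟩, rfl⟩)
    · obtain ⟨k, rfl⟩ := Nat.exists_eq_succ_of_ne_zero hn
      rw [Nat.succ_eq_add_one, pow_succ'] at e
      let e' := topEquiv.symm.trans e
      refine Or.inr (Or.inl ⟨(quatToFour (2 ^ k)).comp (e'.toMonoidHom.comp π),
        (quatToFour_surjective _).comp (e'.surjective.comp hπ), hcyc _ (zpowers (e'.symm (.a 1))) inferInstance ?_⟩)
      intro x hx
      obtain ⟨i, hi⟩ := quatToFour_ker _ (show e' (π x) ∈ (quatToFour (2 ^ k)).ker from hx)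
      exact ⟨i, by simp only at hi ⊢; rw [← map_zpow, hi, MulEquiv.symm_apply_apply]⟩
  · obtain ⟨f, h1, h3⟩ := exists_perm4_of_quat inferInstance (PLocal.pPrimeCore_quotient_pPrimeCore 2 G) h2 hq
    refine Or.inr (Or.inr ⟨f.comp π, by rwa [MonoidHom.range_comp, MonoidHom.range_eq_top.2 hπ, ← MonoidHom.range_eq_map],
      hcyc _ f.ker ?_ le_rfl⟩)
    refine (hq _ (IsPGroup.of_card_dvd_pow (n := 2) h3)).resolve_right ?_
    rintro ⟨n, hn, ⟨e⟩⟩
    have := (eight_dvd_card_quat hn e).trans h3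
    omega

theorem eq_of_sq_of_isZGroup [Finite G] {N : Subgroup G} (hN : IsZGroup N) {a b : G} (ha : a ∈ N) (hb : b ∈ N)
    (ha2 : a ^ 2 = 1) (hb2 : b ^ 2 = 1) (ha1 : a ≠ 1) (hb1 : b ≠ 1) (hab : a * b = b * a) : a = b := by
  classical
  have := Nat.fact_prime_two
  have hoa := orderOf_eq_prime ha2 ha1
  have hob := orderOf_eq_prime hb2 hb1
  have hP : IsPGroup 2 (zpowers a ⊔ zpowers b : Subgroup G) :=
    pgroup_sup (Or.inl (cents_norm (by rw [C_zpowers]; exact zpowers_le.2 (mem_cent1.2 hab))))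
      (isPGroup_zpowers_iff.2 ⟨1, by simpa using hoa⟩) (isPGroup_zpowers_iff.2 ⟨1, by simpa using hob⟩)
  have hle : zpowers a ⊔ zpowers b ≤ N := sup_le (zpowers_le.2 ha) (zpowers_le.2 hb)
  have : IsZGroup (zpowers a ⊔ zpowers b : Subgroup G) :=
    IsZGroup.of_injective (f := inclusion hle) (inclusion_injective hle)
  have : IsCyclic (zpowers a ⊔ zpowers b : Subgroup G) :=
    isCyclic_of_surjective _ (topEquiv.surjective) (hH := (hP.to_subgroup ⊤).isCyclic_of_isZGroup)
  have h1 := mem_zpowers_of_orderOf_dvd (C := zpowers a ⊔ zpowers b) (mem_sup_left (mem_zpowers a))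
    (mem_sup_right (mem_zpowers b)) (by rw [hoa, hob])
  rw [mem_zpowers_iff_mem_range_orderOf, hob] at h1
  simp only [Finset.mem_image, Finset.mem_range] at h1
  obtain ⟨i, hi, e⟩ := h1
  interval_cases i
  · exact absurd e.symm (by simpa using ha1)
  · simpa using e.symm

/-- Every nontrivial normal subgroup contains a four-group. -/
def NoZ (X : Type*) [Group X] : Prop :=
  ∀ K : Subgroup X, K.Normal → K ≠ ⊥ → ∃ a ∈ K, ∃ b ∈ K, a ^ 2 = 1 ∧ b ^ 2 = 1 ∧ a ≠ 1 ∧ b ≠ 1 ∧
    a * b = b * a ∧ a ≠ b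

theorem NoZ.le_ker [Finite G] {X : Type*} [Group X] (hX : NoZ X) {f : G →* X} (hf : Function.Surjective f)
    {N : Subgroup G} (hn : N.Normal) (hN : IsZGroup N) : N ≤ f.ker := by
  have : Finite X := Finite.of_surjective f hf
  rw [← Subgroup.map_eq_bot_iff]
  by_contra hne
  obtain ⟨a, ha, b, hb, h1, h2, h3, h4, h5, h6⟩ := hX _ (hn.map f hf) hne
  exact h6 (eq_of_sq_of_isZGroup (IsZGroup.of_surjective (f := f.subgroupMap N) (f.subgroupMap_surjective N))
    ha hb h1 h2 h3 h4 h5)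

theorem noZ_aux4 : ∀ g : Perm (Fin 4), g ≠ 1 → ∃ h : Perm (Fin 4), Perm.sign h = 1 ∧ ∃ c : Perm (Fin 4),
    Perm.sign c = 1 ∧ (g * (h * g⁻¹ * h⁻¹)) ^ 2 = 1 ∧ g * (h * g⁻¹ * h⁻¹) ≠ 1 ∧
      g * (h * g⁻¹ * h⁻¹) * (c * (g * (h * g⁻¹ * h⁻¹)) * c⁻¹) =
        c * (g * (h * g⁻¹ * h⁻¹)) * c⁻¹ * (g * (h * g⁻¹ * h⁻¹)) ∧
      g * (h * g⁻¹ * h⁻¹) ≠ c * (g * (h * g⁻¹ * h⁻¹)) * c⁻¹ := by
  decide +kernel

theorem noZ_perm4 : NoZ (Perm (Fin 4)) := fun K hK hne => by
  obtain ⟨⟨g, hg⟩, hg1⟩ := ne_bot_iff_exists_ne_one.1 hne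
  obtain ⟨h, -, c, -, h1, h2, h3, h4⟩ := noZ_aux4 g fun e => hg1 (Subtype.ext e)
  have ha := mul_mem hg (hK.conj_mem _ (K.inv_mem hg) h)
  exact ⟨_, ha, _, hK.conj_mem _ ha c, h1, by rw [conj_pow, h1]; simp, h2, by simpa using h2, h3, h4⟩

theorem noZ_alt4 : NoZ (alternatingGroup (Fin 4)) := fun K hK hne => by
  obtain ⟨⟨g, hg⟩, hg1⟩ := ne_bot_iff_exists_ne_one.1 hne
  obtain ⟨h, hh, c, hc, h1, h2, h3, h4⟩ := noZ_aux4 g fun e => hg1 (Subtype.ext (Subtype.ext e))
  have ha := mul_mem hg (hK.conj_mem _ (K.inv_mem hg) ⟨h, hh⟩)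
  have h1' : (g * (⟨h, hh⟩ * g⁻¹ * ⟨h, hh⟩⁻¹)) ^ 2 = 1 := Subtype.ext h1
  have h2' : g * (⟨h, hh⟩ * g⁻¹ * ⟨h, hh⟩⁻¹) ≠ 1 := fun e => h2 (congrArg Subtype.val e)
  exact ⟨_, ha, _, hK.conj_mem _ ha ⟨c, hc⟩, h1', by rw [conj_pow, h1']; simp, h2', by simpa using h2',
    Subtype.ext h3, fun e => h4 (congrArg Subtype.val e)⟩

theorem noZ_perm5 : NoZ (Perm (Fin 5)) := fun K hK hne => by
  have := Perm.alternatingGroup_le_of_normal (N := K) (by simp) ((nontrivial_iff_ne_bot K).2 hne)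
  exact ⟨swap 0 1 * swap 2 3, this (Perm.mem_alternatingGroup.2 (by decide)), swap 0 2 * swap 1 3,
    this (Perm.mem_alternatingGroup.2 (by decide)), by decide, by decide, by decide, by decide, by decide,
    by decide⟩

theorem noZ_alt5 : NoZ (alternatingGroup (Fin 5)) := fun K hK hne => by
  obtain rfl := (hK.eq_bot_or_eq_top).resolve_left hne
  exact ⟨⟨swap 0 1 * swap 2 3, Perm.mem_alternatingGroup.2 (by decide)⟩, trivial,
    ⟨swap 0 2 * swap 1 3, Perm.mem_alternatingGroup.2 (by decide)⟩, trivial,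
    Subtype.ext (by decide), Subtype.ext (by decide), fun e => absurd (congrArg Subtype.val e) (by decide),
    fun e => absurd (congrArg Subtype.val e) (by decide), Subtype.ext (by decide),
    fun e => absurd (congrArg Subtype.val e) (by decide)⟩

theorem IsFC.index_ker_le_four (h : IsFC G) {X : Type*} [Group X] (hX : ∀ x : X, x ^ 2 = 1) (F : G →* X) :
    F.ker.index ≤ 4 := by
  classical
  have := h.finite
  have := Nat.fact_prime_two
  obtain ⟨T⟩ : Nonempty (Sylow 2 G) := inferInstance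
  have hs := F.rangeRestrict_surjective
  have h1 : ((T.mapSurjective hs : Sylow 2 F.range) : Subgroup F.range) = ⊤ :=
    ((T.mapSurjective hs).is_maximal' (Q := ⊤) (fun x => ⟨1, Subtype.ext (Subtype.ext (hX _))⟩) le_top).symm
  have hpow : ∀ (x : X) (k : ℕ), x ^ k = 1 ∨ x ^ k = x := fun x k => by
    rcases Nat.even_or_odd' k with ⟨m, rfl | rfl⟩
    · left; rw [pow_mul, hX, one_pow]
    · right; rw [pow_succ, pow_mul, hX, one_pow, one_mul]
  obtain ⟨a, x, hax⟩ : ∃ a x : T, ∀ t : T, ∃ k : ℕ, t = a ^ k ∨ t = x * a ^ k := by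
    rcases h.isCyclic_or_quaternion T.isPGroup' with hc | ⟨-, n, -, ⟨e⟩⟩
    · obtain ⟨a, ha⟩ := hc.exists_monoid_generator
      exact ⟨a, 1, fun t => by obtain ⟨k, hk⟩ := ha t; exact ⟨k, Or.inl hk.symm⟩⟩
    · refine ⟨e.symm (.a 1), e.symm (.xa 0), fun t => ?_⟩
      obtain ⟨k, hk⟩ := quat_cases (e t)
      refine ⟨k, hk.imp (fun hk => ?_) fun hk => ?_⟩
      · rw [← map_pow, ← hk, MulEquiv.symm_apply_apply]
      · rw [← map_pow, ← map_mul, ← hk, MulEquiv.symm_apply_apply]
  have h2 : (F.range : Set X) ⊆ ({1, F a, F x, F x * F a} : Finset X) := by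
    intro y hy
    obtain ⟨t, ht, e⟩ := h1.ge (mem_top (⟨y, hy⟩ : F.range))
    obtain rfl : F t = y := congrArg Subtype.val e
    obtain ⟨k, hk | hk⟩ := hax ⟨t, ht⟩
    · obtain rfl : t = a ^ k := congrArg Subtype.val hk
      rcases hpow (F a) k with h3 | h3 <;> simp [h3]
    · obtain rfl : t = x * a ^ k := congrArg Subtype.val hk
      rcases hpow (F a) k with h3 | h3 <;> simp [h3]
  rw [index_ker]
  have := Set.ncard_le_ncard h2 (Finset.finite_toSet _)
  rw [Set.ncard_coe_finset] at this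
  exact this.trans Finset.card_le_four

end Cfsg.Agent.Gen2
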