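import Cfsg.Agent.Gen2.SolRad
import Cfsg.Agent.BMod.Rank2
import Cfsg.Agent.Block.Galois
import Cfsg.Agent.Block.Count
import Cfsg.Agent.Char.Burnside

/-!
Kazarin's theorem: an element whose class size is a prime power lies in the solvable radical
(`mem_solRad_of_cs`).  The key step `exists_ker_of_cs`: if `|x^G| = p^k` and `r ≠ p` is a prime
dividing `|G|` but not the order of `x`, then `x` lies in a proper normal subgroup.
-/

namespace Cfsg.Agent.Gen2

open Subgroup Cfsg.Agent.Block Cfsg.Agent.Char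

variable {G : Type*} [Group G]

theorem exists_principal_not_dvd [Finite G] {p r : ℕ} (hp : p.Prime) [Fact r.Prime]
    (M : Ideal AlgInt) [PMod r M] (hr : r ∣ Nat.card G) :
    ∃ χ ∈ principalBlock M G, χ ≠ irrOne G ∧ ¬ p ∣ charDegree (χ : G → ℂ) := by
  classical
  by_contra H
  push Not at H
  obtain ⟨y, hy⟩ := exists_prime_orderOf_dvd_card' r hr
  have h1 := sum_block_orth_weak (M := M) isPBlock_principalBlock.isBlockUnion (g := (1 : G))
    (h := y) (by simpa using (Fact.out : r.Prime).ne_one) (by rw [hy])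
  rw [← Finset.add_sum_erase _ _ (Finset.mem_univ (irrOne G)),
    if_pos irrOne_mem_principalBlock] at h1
  have hp0 : (p : ℂ) ≠ 0 := by exact_mod_cast hp.ne_zero
  have h2 : IsIntegral ℤ ((∑ χ ∈ Finset.univ.erase (irrOne G),
      if χ ∈ principalBlock M G then χ.1 1 * χ.1 y⁻¹ else 0) / p) := by
    rw [Finset.sum_div]
    refine IsIntegral.sum _ fun χ hχ => ?_
    split_ifs with hB
    · obtain ⟨c, hc⟩ := H χ hB (Finset.mem_erase.mp hχ).1
      have : χ.1 1 * χ.1 y⁻¹ / p = c * χ.1 y⁻¹ := by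
        rw [χ.2.apply_one_eq_charDegree, hc]; push_cast; field_simp
      rw [this]
      exact (isIntegral_algebraMap (x := (c : ℤ))).mul (χ.2.isCharacter.isIntegral _)
    · simpa using isIntegral_zero
  have h3 : (∑ χ ∈ Finset.univ.erase (irrOne G),
      if χ ∈ principalBlock M G then χ.1 1 * χ.1 y⁻¹ else 0) = -1 := by
    simp only [irrOne_apply, mul_one] at h1
    linear_combination h1
  rw [h3, neg_div] at h2
  have := dvd_of_isIntegral_div (a := 1) hp.ne_zero (by simpa using h2.neg)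
  exact hp.one_lt.ne' (Nat.dvd_one.mp this)

theorem exists_ker_of_cs [Finite G] {p r k : ℕ} (hp : p.Prime) (hr : r.Prime) (hpr : r ≠ p)
    (hrG : r ∣ Nat.card G) {x : G} (hx : (centralizer ({x} : Set G)).index = p ^ k)
    (hrx : ¬ r ∣ orderOf x) : ∃ N : Subgroup G, N.Normal ∧ N ≠ ⊤ ∧ x ∈ N := by
  have := Fact.mk hr
  obtain ⟨M, _⟩ := BMod.exists_pmod' r
  obtain ⟨χ, hB, h1, hd⟩ := exists_principal_not_dvd hp M hrG
  have h2 : red M ((χ : G → ℂ) x / (χ : G → ℂ) 1) = 1 := red_div_of_principal hB (by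
    rw [hx]; exact fun h => hpr ((Nat.prime_dvd_prime_iff_eq hr hp).1 (hr.dvd_of_dvd_pow h)))
  have h0 := χ.2.apply_one_ne_zero
  refine ⟨charKer χ, χ.2.isClassFunction.normal_charKer,
    fun h => h1 (Subtype.ext (χ.2.charKer_eq_top_iff.1 h)), ?_⟩
  rcases χ.2.eq_zero_or_mem_charCenter x (by
    rw [hx]; exact Nat.Coprime.pow_right _ ((Nat.Prime.coprime_iff_not_dvd hp).mpr hd).symm)
    with h | ⟨ω, -, h⟩
  · rw [h, zero_div, red_zero] at h2
    exact absurd h2 zero_ne_one
  · have h3 : ∀ n : ℕ, (χ : G → ℂ) (x ^ n) = ω ^ n * (χ : G → ℂ) 1 := by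
      intro n
      induction n with
      | zero => simp
      | succ n ih => rw [pow_succ', h, ih]; ring
    have h4 : ω ^ orderOf x = 1 := by
      have := h3 (orderOf x)
      rw [pow_orderOf_eq_one] at this
      exact (mul_eq_right₀ h0).1 this.symm
    have h5 := h3 1
    rw [pow_one, pow_one] at h5
    rw [h5, mul_div_assoc, div_self h0, mul_one] at h2
    rw [χ.2.isCharacter.mem_charKer, h5, eq_one_of_red_eq_one (M := M) hrx h4 h2, one_mul]

/-- Kazarin's theorem. -/
theorem mem_solRad_of_cs.{u} {G : Type u} [Group G] [Finite G] {p k : ℕ} (hp : p.Prime) {x : G}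
    (hx : (centralizer ({x} : Set G)).index = p ^ k) : x ∈ solvableRadical G := by
  refine mem_of_forall_pElt fun q hq y hy hj => ?_
  obtain ⟨j, hj⟩ := hj
  obtain ⟨k', -, hk⟩ := (Nat.dvd_prime_pow hp).1 (hx ▸ cs_dvd_of_mem_zpowers hy)
  clear hx hy x k
  induction hn : Nat.card G using Nat.strong_induction_on generalizing G k' with
  | _ n ih =>
  subst hn
  by_cases h : ∀ r : ℕ, r.Prime → r ∣ Nat.card G → r = p ∨ r = q
  · rw [solRad_eq_top_iff.2 (isSolvable_of_two_primes h)]; trivial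
  push Not at h
  obtain ⟨r, hr, hrG, hrp, hrq⟩ := h
  obtain ⟨N, hN, hN', hyN⟩ := exists_ker_of_cs hp hr hrp hrG hk (by
    rw [hj]; exact fun h => hrq ((Nat.prime_dvd_prime_iff_eq hr hq).1 (hr.dvd_of_dvd_pow h)))
  obtain ⟨k'', -, hk'⟩ := (Nat.dvd_prime_pow hp).1 (hk ▸ cs_normal_dvd N ⟨y, hyN⟩)
  exact map_subtype_solRad_le N ⟨⟨y, hyN⟩, ih _ (Solv.card_lt_of_ne_top hN') (G := N)
    ⟨y, hyN⟩ (by rw [orderOf_mk, hj]) k'' hk' rfl, rfl⟩

end Cfsg.Agent.Gen2
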