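import Cfsg.Agent.Gen2.ThW

/-!
Kegel's theorem in coset form (`kegel`): if `x` normalizes `K` and all elements of the coset `K x`
have `p`-th power `1` (`p` prime), then `K` is nilpotent. The key tool is `cent_of_coset`: under the
same hypothesis on `V Q x`, a subgroup `Q` centralizes an abelian subgroup `V` of coprime order.
-/

namespace Cfsg.Agent.Gen2

open Subgroup Cfsg.Agent.BG
open scoped IsMulCommutative

universe u

theorem prod_act_eq_pow {B V : Type*} [Group B] [CommGroup V] (φ : B →* MulAut V)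
    {Q : Subgroup B} [Fintype Q] {x : B} (hx : x ∈ N[Q]) {p : ℕ} (hp : p.Prime)
    (h1 : ∀ q ∈ Q, (q * x) ^ p = 1)
    (h2 : ∀ q ∈ Q, ∀ v, ∏ i ∈ Finset.range p, φ ((q * x) ^ i) v = 1) (v : V) :
    ∏ q : Q, φ q v = v ^ #Q := by
  obtain ⟨n, rfl⟩ : ∃ n, p = n + 1 := ⟨p - 1, by have := hp.pos; omega⟩
  have mem : ∀ q ∈ Q, ∀ i : ℕ, (q * x) ^ i * (x ^ i)⁻¹ ∈ Q := fun q hq i => by
    induction i with
    | zero => simp
    | succ i ih =>
      rw [show (q * x) ^ (i + 1) * (x ^ (i + 1))⁻¹ = q * (x * ((q * x) ^ i * (x ^ i)⁻¹) * x⁻¹) by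
        rw [pow_succ', pow_succ']; group]
      exact mul_mem hq (conj_mem_of_norm hx ih)
  have step : ∀ i ∈ Finset.range n, ∏ q : Q, φ ((q * x) ^ (i + 1)) v =
      ∏ q : Q, φ q (φ (x ^ (i + 1)) v) := fun i hi => by
    have co : (i + 1).Coprime (n + 1) :=
      (Nat.coprime_of_lt_prime (by omega) (by simpa using hi) hp).symm
    refine Fintype.prod_bijective (fun q : Q => (⟨_, mem q q.2 (i + 1)⟩ : Q))
      (Finite.injective_iff_bijective.1 fun a b e => ?_) _ _ fun q => by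
        rw [← MulAut.mul_apply, ← map_mul]; simp
    have e : ((a : B) * x) ^ (i + 1) = (b * x) ^ (i + 1) := by simpa using e
    obtain ⟨m, hm⟩ := Nat.exists_mul_mod_eq_one_of_coprime co hp.one_lt
    have k : ∀ c : Q, (((c : B) * x) ^ (i + 1)) ^ m = c * x := fun c => by
      rw [← pow_mul, ← Nat.div_add_mod ((i + 1) * m) (n + 1), pow_add, pow_mul, h1 _ c.2, hm.2]
      simp
    exact Subtype.ext (mul_right_cancel (k a ▸ k b ▸ congrArg (· ^ m) e))
  have tot : ∏ q : Q, ∏ i ∈ Finset.range (n + 1), φ ((q * x) ^ i) v = 1 :=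
    Finset.prod_eq_one fun q _ => h2 q q.2 v
  have h0 := h2 1 (one_mem _) v
  rw [Finset.prod_comm, Finset.prod_range_succ', Finset.prod_congr rfl step, Finset.prod_comm] at tot
  rw [Finset.prod_range_succ', one_mul, ← eq_inv_iff_mul_eq_one] at h0
  simp only [← map_prod, h0] at tot
  simpa [inv_mul_eq_one] using tot

variable {G : Type*} [Group G] [Finite G]

theorem cent_of_coset {V Q : Subgroup G} {x : G} {p : ℕ} (hp : p.Prime) (hV : IsMulCommutative V)
    (hQ : Q ≤ N[V]) (hxV : x ∈ N[V]) (hx : x ∈ N[Q]) (co : (#V).Coprime #Q)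
    (h : ∀ q ∈ Q, ∀ v ∈ V, (v * (q * x)) ^ p = 1) : Q ≤ C[V] := by
  have := Fintype.ofFinite (Q.subgroupOf N[V])
  have pw : ∀ (y : N[V]) (v : V) (n : ℕ), ((v : G) * y) ^ n =
      (∏ i ∈ Finset.range n, V.normalizerMonoidHom (y ^ i) v : V) * (y : G) ^ n := fun y v n => by
    induction n with
    | zero => simp
    | succ n ih =>
      rw [Finset.prod_range_succ, pow_succ, ih, coe_mul, normalizerMonoidHom_apply_apply_coe]
      simp [pow_succ, mul_assoc]
  have h1 : ∀ q ∈ Q.subgroupOf N[V], (q * ⟨x, hxV⟩) ^ p = 1 := fun q hq =>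
    Subtype.ext (by simpa using h q hq 1 (one_mem _))
  have key := prod_act_eq_pow V.normalizerMonoidHom (Q := Q.subgroupOf N[V]) (x := ⟨x, hxV⟩)
    (norms_subgroupOf N[V] (zpowers_le.2 hx) (mem_subgroupOf.2 (mem_zpowers x))) hp h1
    fun q hq v => by
      have e := pw (q * ⟨x, hxV⟩) v p
      rw [← coe_pow _ (q * _), h1 q hq] at e
      exact Subtype.ext (by simpa using e.symm.trans (h q hq v v.2))
  intro g hg v hv
  have inj := (powCoprime (G := V) (n := #Q) co).injective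
  have e : V.normalizerMonoidHom ⟨g, hQ hg⟩ ⟨v, hv⟩ = ⟨v, hv⟩ := by
    refine inj ?_
    simp only [powCoprime_apply, ← card_subgroupOf hQ, ← key]
    exact Fintype.prod_equiv (Equiv.mulRight (⟨⟨g, hQ hg⟩, hg⟩ : Q.subgroupOf N[V])) _ _ fun q => by
      rw [← MulAut.mul_apply, ← map_mul]; rfl
  have := congrArg Subtype.val e
  rw [normalizerMonoidHom_apply_apply_coe] at this
  exact (mul_inv_eq_iff_eq_mul.1 this).symm

theorem exists_coset_norm_sylow {K Q : Subgroup G} {x : G} {q : ℕ} [Fact q.Prime] (hx : x ∈ N[K])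
    (hQ : SylowIn q Q K) : ∃ k ∈ K, k * x ∈ N[Q] := by
  obtain ⟨k, hk, e⟩ := Sylow_trans (pHallJnorm hx hQ) hQ
  exact ⟨k, hk, mem_norm.2 (by rw [cj_mul, ← e])⟩

theorem kegel {G : Type u} [Group G] [Finite G] {p : ℕ} (hp : p.Prime) {K : Subgroup G} {x : G}
    (hx : x ∈ N[K]) (h : ∀ k ∈ K, (k * x) ^ p = 1) : Group.IsNilpotent K := by
  induction hk : #K using Nat.strong_induction_on generalizing G with
  | _ n ih =>
  subst hk
  have sub : ∀ H < K, ∀ k ∈ K, k * x ∈ N[H] → Group.IsNilpotent H := fun H lt k hk hn =>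
    ih _ (proper_card lt) hn (fun y hy => by
      rw [← mul_assoc]; exact h _ (mul_mem (lt.le hy) hk)) rfl
  have quo : ∀ W, W ≠ ⊥ → W ⊴ K → x ∈ N[W] → Group.IsNilpotent (K /ᵍ W) := fun W W1 nW xW =>
    ih _ (ltn_quotient W1 nW.le) (x := coset W x) (by
      have := quotient_norms W (zpowers_le.2 hx)
      rw [quotient_zpowers xW] at this
      exact this (mem_zpowers _)) (fun y hy => by
      obtain ⟨y, h1, h2, rfl⟩ := mem_quotient_iff.1 hy
      rw [← coset_mul h2 xW, ← coset_pow (mul_mem h2 xW), h y h1, coset_one]) rfl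
  have hs : Group.IsSolvable K := by
    by_contra hs
    obtain ⟨q, hq, hd, h5⟩ := exists_five_le_dvd hs
    have := Fact.mk hq
    obtain ⟨Q, hQ⟩ := Sylow_exists q K
    obtain ⟨k, hk, nQ⟩ := exists_coset_norm_sylow hx hQ
    obtain ⟨W, lW, W1, nW, hW⟩ := exists_W h5 hQ (Sylow_ne_bot hQ hd)
    rcases (inf_le_left : K ⊓ N[W] ≤ K).eq_or_lt with e | lt
    · have nK : W ⊴ K := ⟨lW.trans hQ.le, inf_eq_left.1 e⟩
      exact hs (series_sol nK (pgroup_sol (hQ.pg.to_le lW)) (nilpotent_sol (quo W W1 nK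
        ((mul_mem_cancel_left (nK.2 hk)).1 (nW nQ)))))
    have nil := sub _ lt k hk (normsI (zpowers_le.2 (mul_mem (normG _ hk) hx))
      (norms_norm (zpowers_le.2 (nW nQ))) (mem_zpowers _))
    exact hs (sol_of_npc (hW Transfer.hasNormalPComplement_of_isNilpotent)
      (nilpotent_sol (sub _ (Op'_lt hq hd) 1 (one_mem _)
        (norms_pcore _ (zpowers_le.2 (by rwa [one_mul])) (mem_zpowers _)))))
  by_cases K1 : K = ⊥
  · rw [K1]; exact nilpotent_bot
  obtain ⟨V, r, lV, nV, V1, hr, ab⟩ := solvable_norm_abelem hs K1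
    (sup_le (normG K) (zpowers_le.2 hx))
  have := Fact.mk hr
  have nK : V ⊴ K := ⟨lV, le_sup_left.trans nV⟩
  have xV : x ∈ N[V] := nV (mem_sup_right (mem_zpowers x))
  have nil := quo V V1 nK xV
  refine nil_of_Sylow_normal fun q hq _ => ?_
  have := Fact.mk hq
  obtain ⟨Q, hQ⟩ := Sylow_exists q K
  have QV : Q ≤ N[V] := hQ.le.trans nK.2
  have VQ : V ≤ N[Q] := by
    by_cases e : r = q
    · subst e; exact normsG (normal_sub_Hall hQ nK (IsPGroup.pi ab.pg))
    obtain ⟨k, hk, nQ⟩ := exists_coset_norm_sylow hx hQ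
    exact cents_norm (cents_symm (cent_of_coset hp ab.abelian QV (mul_mem (nK.2 hk) xV) nQ
      (pnat_coprime (IsPGroup.pi ab.pg) (p'group_of_ne hQ.pg (Ne.symm e))) fun y hy v hv => by
        simpa only [mul_assoc] using h _ (mul_mem (lV hv) (mul_mem (hQ.le hy) hk))))
  have n2 : V ⊔ Q ⊴ K := by
    rw [← quotientK QV]
    exact cosetpre_normal nK (nilpotent_Hall_normal nil (quotient_pHall nK.2 hQ))
  refine ⟨Q, hQ, ?_⟩
  rw [← Frattini_arg n2 (pHall_subl le_sup_right n2.le hQ)]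
  exact sup_le (sup_le VQ (normG _)) inf_le_right

end Cfsg.Agent.Gen2
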