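import Cfsg.Agent.FG.Count
import Cfsg.Agent.Gen2.Uniserial
import Cfsg.Agent.PGrp.MaxClassP
import Mathlib.GroupTheory.FiniteAbelian.Duality
import Mathlib.RingTheory.RootsOfUnity.AlgebraicallyClosed
import Mathlib.Analysis.Complex.Polynomial.Basic

/-! The Kulakoff–Hall theorem: counting subgroups of order `p ^ a` modulo `p ^ 2`. -/

set_option autoImplicit false

namespace Cfsg.Agent.Gen2

open Subgroup Cfsg.Agent.BG MulAction

variable {G : Type*} [Group G] [Finite G] {p : ℕ} [hp : Fact p.Prime]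

theorem card_order_p_comm {A : Type*} [CommGroup A] [Finite A] (hA : IsPGroup p A) (hc : ¬ IsCyclic A) :
    Nat.card {H : Subgroup A // #H = p} ≡ 1 + p [MOD p ^ 2] := by
  classical
  let Ω : Subgroup A := (powMonoidHom p : A →* A).ker
  obtain ⟨d, hd⟩ := (hA.to_subgroup Ω).exists_card_eq
  have h1 := card_subgroups_prime_mul (L := A) (p := p)
  have h2 : Nat.card {x : A // orderOf x = p} + 1 = p ^ d := by
    have e : {x : A // orderOf x = p} ≃ {y : Ω // y ≠ 1} :=
      { toFun := fun x => ⟨⟨x.1, by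
          change x.1 ^ p = 1
          have := pow_orderOf_eq_one x.1
          rwa [x.2] at this⟩, fun h => by
            have h2 : x.1 = 1 := congrArg Subtype.val h
            have := x.2
            rw [h2, orderOf_one] at this
            exact hp.out.one_lt.ne this⟩
        invFun := fun y => ⟨y.1, orderOf_eq_prime y.1.2 fun h => y.2 (Subtype.ext h)⟩
        left_inv := fun _ => rfl
        right_inv := fun _ => rfl }
    have := Fintype.ofFinite Ω
    rw [Nat.card_congr e, ← hd]
    simp only [Nat.card_eq_fintype_card, Fintype.card_subtype_compl, Fintype.card_unique]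
    have : 0 < Fintype.card Ω := Fintype.card_pos
    omega
  have h2p := hp.out.two_le
  have hd2 : 2 ≤ d := by
    by_contra hlt
    have h3 : p ^ d ≤ p := by
      calc p ^ d ≤ p ^ 1 := Nat.pow_le_pow_right hp.out.pos (by omega)
        _ = p := pow_one p
    have h4 : Nat.card {H : Subgroup A // #H = p} ≤ 1 := by
      by_contra h5
      have : 2 * (p - 1) ≤ Nat.card {H : Subgroup A // #H = p} * (p - 1) := Nat.mul_le_mul_right _ (by omega)
      omega
    have := Finite.card_le_one_iff_subsingleton.1 h4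
    exact hc (PGrp.isCyclic_of_unique hA fun H K hH hK =>
      congrArg Subtype.val (Subsingleton.elim (⟨H, hH⟩ : {H : Subgroup A // #H = p}) ⟨K, hK⟩))
  have h3 : Nat.card {H : Subgroup A // #H = p} * (p - 1) + 1 ≡ (1 + p) * (p - 1) + 1 [MOD p ^ 2] := by
    rw [h1, h2, show (1 + p) * (p - 1) + 1 = p ^ 2 by
      obtain ⟨k, rfl⟩ := Nat.exists_eq_add_of_le' hp.out.one_le
      simp; ring]
    exact (Nat.modEq_zero_iff_dvd.2 (pow_dvd_pow p hd2)).trans (Nat.modEq_zero_iff_dvd.2 dvd_rfl).symm
  refine Nat.ModEq.cancel_right_of_coprime ?_ (Nat.ModEq.add_right_cancel' 1 h3)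
  exact Nat.Coprime.pow_left 2 ((Nat.coprime_self_sub_right hp.out.one_le).2 (Nat.coprime_one_right p))

theorem card_index_p (hG : IsPGroup p G) (hc : ¬ IsCyclic G) :
    Nat.card {K : Subgroup G // K.index = p} ≡ 1 + p [MOD p ^ 2] := by
  have := hG.isNilpotent
  let A := Abelianization G
  let π : G →* A := Abelianization.of
  have hπ : Function.Surjective π := QuotientGroup.mk_surjective
  have hk : π.ker = commutator G := Abelianization.ker_of G
  have hle : ∀ K : Subgroup G, K.index = p → π.ker ≤ K := fun K hK => by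
    rw [hk, ← der_top]
    refine commutator_le_of_relIndex_prime (p := p) ?_ (by rw [relIndex_top_right]; exact hK)
    have := PGrp.normal_of_index_eq hG hK
    exact norm_of_normal _ _
  have e1 : {H : Subgroup A // H.index = p} ≃ {K : Subgroup G // K.index = p} :=
    { toFun := fun H => ⟨H.1.comap π, by rw [index_comap_of_surjective _ hπ]; exact H.2⟩
      invFun := fun N => ⟨N.1.map π, by rw [index_map_eq _ hπ (hle _ N.2), N.2]⟩
      left_inv := fun H => Subtype.ext (map_comap_eq_self_of_surjective hπ _)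
      right_inv := fun N => Subtype.ext (comap_map_eq_self (hle _ N.2)) }
  have : NeZero (Monoid.exponent A) := ⟨Monoid.exponent_ne_zero_of_finite⟩
  have : NeZero ((Monoid.exponent A : ℕ) : ℂ) := ⟨by exact_mod_cast NeZero.ne _⟩
  obtain ⟨e⟩ := CommGroup.monoidHom_mulEquiv_of_hasEnoughRootsOfUnity A ℂ
  have : Finite (A →* ℂˣ) := Finite.of_equiv _ e.symm.toEquiv
  have e2 : {H : Subgroup A // H.index = p} ≃ {H : Subgroup (A →* ℂˣ) // #H = p} :=
    Equiv.subtypeEquiv ((CommGroup.subgroupOrderIsoSubgroupMonoidHom A ℂ).toEquiv.trans OrderDual.ofDual)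
      fun H => by
        have := CommGroup.card_subgroupOrderIsoSubgroupMonoidHom (M := ℂ) H
        rw [index_eq_card, ← this]; rfl
  rw [← Nat.card_congr e1, Nat.card_congr e2]
  have hA : IsPGroup p A := hG.of_surjective π hπ
  refine card_order_p_comm (hA.of_equiv e.symm) fun h => hc (PGrp.isCyclic_of_quot ?_)
  exact isCyclic_of_surjective e e.surjective

/-- The number of subgroups of `H` of order `p ^ a`. -/
noncomputable def nsub (n : ℕ) (H : Subgroup G) : ℕ := Nat.card {K : Subgroup G // K ≤ H ∧ #K = n}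

omit [Finite G] in
theorem nsub_eq (n : ℕ) (H : Subgroup G) : nsub n H = Nat.card {K : Subgroup H // #K = n} :=
  Nat.card_congr
    { toFun := fun K => ⟨K.1.subgroupOf H, by
        rw [Nat.card_congr (subgroupOfEquivOfLe K.2.1).toEquiv]; exact K.2.2⟩
      invFun := fun K => ⟨K.1.map H.subtype, map_subtype_le _, by
        rw [card_map_of_injective H.subtype_injective]; exact K.2⟩
      left_inv := fun K => Subtype.ext (by simp [K.2.1])
      right_inv := fun K => Subtype.ext (subgroupOf_map_subtype' _) }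

omit [Finite G] in
theorem nsub_cj (n : ℕ) (g : G) (H : Subgroup G) : nsub n (cj g H) = nsub n H :=
  Nat.card_congr
    { toFun := fun K => ⟨cj g⁻¹ K.1, cj_le_iff.2 (by simpa using K.2.1), (card_cj _ _).trans K.2.2⟩
      invFun := fun K => ⟨cj g K.1, cj_mono g K.2.1, (card_cj _ _).trans K.2.2⟩
      left_inv := fun K => Subtype.ext (cj_cj_inv _ _)
      right_inv := fun K => Subtype.ext (cj_inv_cj _ _) }

theorem nsub_of_cyclic {n : ℕ} {H : Subgroup G} (hc : IsCyclic H) (h : n ∣ #H) : nsub n H = 1 := by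
  obtain ⟨K, hK, e⟩ := cyclic_sub_of_dvd hc h
  exact Nat.card_eq_one_iff_exists.2 ⟨⟨K, hK, e⟩, fun L =>
    Subtype.ext (eq_subG_cyclic hc L.2.1 hK (L.2.2.trans e.symm))⟩

theorem nsub_self (H : Subgroup G) : nsub (#H) H = 1 :=
  Nat.card_eq_one_iff_exists.2 ⟨⟨H, le_rfl, rfl⟩, fun L => Subtype.ext (eq_of_card_le L.2.1 L.2.2.ge)⟩

theorem nsub_of_lt {n : ℕ} {H : Subgroup G} (h : #H < n) : nsub n H = 0 := by
  have : IsEmpty {K : Subgroup G // K ≤ H ∧ #K = n} := ⟨fun K => by
    have := card_le_card K.2.1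
    rw [K.2.2] at this; omega⟩
  exact Nat.card_of_isEmpty

theorem nsub_of_noncyclic {a : ℕ} {H : Subgroup G} (hH : #H = p ^ (a + 1)) (hc : ¬ IsCyclic H) :
    nsub (p ^ a) H ≡ 1 + p [MOD p ^ 2] := by
  rw [nsub_eq, Nat.card_congr (Equiv.subtypeEquivRight (q := fun K : Subgroup H => K.index = p) fun K => ?_)]
  · exact card_index_p (IsPGroup.of_card hH) hc
  · have := K.card_mul_index
    rw [hH, pow_succ] at this
    exact ⟨fun h => Nat.eq_of_mul_eq_mul_left (pow_pos hp.out.pos _) (h ▸ this),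
      fun h => Nat.eq_of_mul_eq_mul_right hp.out.pos (h ▸ this)⟩

open Pointwise in
omit hp in
theorem card_invariant_subsets (K : Subgroup G) (n : ℕ) :
    Nat.card {S : Set G // S.ncard = #K * n ∧ K ≤ stabilizer G S} = K.index.choose n := by
  let π : G → G ⧸ K := fun g => ((g⁻¹ : G) : G ⧸ K)
  have hπ : Function.Surjective π := fun y => by
    obtain ⟨g, rfl⟩ := QuotientGroup.mk_surjective y
    exact ⟨g⁻¹, by simp [π]⟩
  have hc : ∀ T : Set (G ⧸ K), (π ⁻¹' T).ncard = #K * T.ncard := fun T => by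
    have : π ⁻¹' T = (QuotientGroup.mk ⁻¹' T)⁻¹ := by ext; simp [π]
    rw [this, Set.ncard_inv]
    exact QuotientGroup.card_preimage_mk K T
  have h1 := Set.ncard_powerset_ncard (Set.toFinite (Set.univ : Set (G ⧸ K))) n
  simp only [Set.subset_univ, true_and, Set.ncard_univ] at h1
  rw [index_eq_card, ← h1]
  symm
  refine Nat.card_eq_of_bijective (fun T => ⟨π ⁻¹' T.1, by rw [hc, T.2], fun k hk => ?_⟩) ⟨?_, ?_⟩
  · rw [mem_stabilizer_set]
    intro b
    have : π (k • b) = π b := QuotientGroup.eq.2 (by simpa using hk)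
    simp only [Set.mem_preimage, this]
  · intro T T' h
    exact Subtype.ext (hπ.preimage_injective (congrArg Subtype.val h))
  · rintro ⟨S, hS, hK⟩
    have h2 : π ⁻¹' (π '' S) = S := by
      refine Set.Subset.antisymm ?_ (Set.subset_preimage_image _ _)
      rintro x ⟨y, hy, e⟩
      have h3 : y * x⁻¹ ∈ K := by simpa using QuotientGroup.eq.1 e
      have := (mem_stabilizer_set.1 (hK (K.inv_mem h3)) y).2 hy
      simpa using this
    refine ⟨⟨π '' S, ?_⟩, Subtype.ext h2⟩
    have := hc (π '' S)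
    rw [h2, hS] at this
    exact (Nat.eq_of_mul_eq_mul_left (cardG_pos K) this).symm

open Pointwise Classical in
omit hp in
theorem sum_stabilizer_eq [Fintype G] {q m : ℕ} (hG : Nat.card G = q * m) (F : Subgroup G → ℤ)
    (hF : ∀ g H, F (cj g H) = F H) :
    ∑ S ∈ Finset.univ.filter (fun S : Set G => S.ncard = q ∧ #(stabilizer G S) = q), F (stabilizer G S) =
      m * ∑ H ∈ Finset.univ.filter (fun H : Subgroup G => #H = q), F H := by
  have hq : 0 < q := Nat.pos_of_mul_pos_right (hG ▸ Nat.card_pos)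
  have hst : ∀ (g : G) (H : Subgroup G), stabilizer G (g • (H : Set G)) = cj g H := fun g H => by
    rw [stabilizer_smul_eq_stabilizer_map_conj, stabilizer_subgroup]; rfl
  rw [← Finset.sum_bij (s := (Finset.univ : Finset (Σ H : {H : Subgroup G // #H = q}, G ⧸ H.1)))
    (f := fun a => F a.1.1) (fun a _ => a.2.out • (a.1.1 : Set G))]
  · rw [Fintype.sum_sigma, Finset.mul_sum, ← Finset.sum_subtype_eq_sum_filter]
    simp only [Finset.subtype_univ]
    refine Finset.sum_congr rfl fun H _ => ?_
    have := card_mul_index H.1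
    rw [H.2, hG, Nat.mul_right_inj hq.ne', index_eq_card, Nat.card_eq_fintype_card] at this
    simp [this]
  · intro a _
    simp only [Finset.mem_filter, Finset.mem_univ, true_and]
    exact ⟨by rw [Set.ncard_smul_set]; exact a.1.2, by rw [hst]; exact (card_cj _ _).trans a.1.2⟩
  · rintro ⟨⟨H, hH⟩, a⟩ - ⟨⟨K, hK⟩, b⟩ - e
    have e : a.out • (H : Set G) = b.out • (K : Set G) := e
    have h4 : b.out⁻¹ * a.out ∈ K := by
      have : a.out ∈ b.out • (K : Set G) := e ▸ ⟨1, H.one_mem, by simp⟩
      exact Set.mem_smul_set_iff_inv_smul_mem.1 this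
    obtain rfl : H = K := by
      ext x
      rw [← SetLike.mem_coe, ← Set.smul_mem_smul_set_iff (a := a.out), e, Set.mem_smul_set_iff_inv_smul_mem,
        smul_eq_mul, smul_eq_mul, ← mul_assoc, SetLike.mem_coe, mul_mem_cancel_left h4]
    obtain rfl : b = a := by rw [← a.out_eq', ← b.out_eq']; exact QuotientGroup.eq.2 h4
    rfl
  · intro S hS
    obtain ⟨hS, hS'⟩ := (Finset.mem_filter.1 hS).2
    obtain ⟨s, hs⟩ := Set.nonempty_of_ncard_ne_zero (hS ▸ hq.ne')
    refine ⟨⟨⟨cj s⁻¹ (stabilizer G S), (card_cj _ _).trans hS'⟩, s⟩, Finset.mem_univ _, ?_⟩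
    refine Set.eq_of_subset_of_ncard_le ?_ (by
      rw [Set.ncard_smul_set]; exact (hS.trans ((card_cj s⁻¹ _).trans hS').symm).le)
    rintro _ ⟨y, hy, rfl⟩
    obtain ⟨h, e⟩ := QuotientGroup.mk_out_eq_mul (cj s⁻¹ (stabilizer G S)) s
    have := (mem_stabilizer_set.1 (mem_cj_inv.1 (mul_mem h.2 hy)) s).2 hs
    simpa [e, mul_assoc] using this
  · intro a _
    rw [hst, hF]

open Pointwise Classical in
theorem kulakoff_identity [Fintype G] {a m : ℕ} (hG : Nat.card G = p ^ (a + 1) * m) :
    (Nat.card {H : Subgroup G // #H = p ^ a} : ℤ) * (p * m).choose p -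
      m * ∑ H ∈ Finset.univ.filter (fun H : Subgroup G => #H = p ^ (a + 1)), ((nsub (p ^ a) H : ℤ) - 1) ≡
      (Nat.card G).choose (p ^ (a + 1)) [ZMOD (p ^ 2 * m : ℕ)] := by
  set B := Finset.univ.filter (fun S : Set G => S.ncard = p ^ (a + 1)) with hB
  have h1 : B.card = (Nat.card G).choose (p ^ (a + 1)) := by
    have := Set.ncard_powerset_ncard (Set.toFinite (Set.univ : Set G)) (p ^ (a + 1))
    simp only [Set.subset_univ, true_and, Set.ncard_univ] at this
    rw [← this, ← Set.ncard_coe_finset]; congr 1; ext; simp [hB]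
  have h2 : ∑ S ∈ B, nsub (p ^ a) (stabilizer G S) =
      Nat.card {H : Subgroup G // #H = p ^ a} * (p * m).choose p := by
    have e1 : ∀ S : Set G, nsub (p ^ a) (stabilizer G S) =
        ∑ K ∈ Finset.univ.filter (fun K : Subgroup G => #K = p ^ a), if K ≤ stabilizer G S then 1 else 0 := by
      intro S
      rw [← Finset.card_filter, nsub, Nat.card_eq_fintype_card, Fintype.card_subtype, Finset.filter_filter]
      congr 1; ext; simp [and_comm]
    simp only [e1]
    rw [Finset.sum_comm, Finset.sum_congr rfl (g := fun _ => (p * m).choose p), Finset.sum_const, smul_eq_mul,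
      Nat.card_eq_fintype_card, Fintype.card_subtype]
    intro K hK
    have hK := (Finset.mem_filter.1 hK).2
    have h3 := card_invariant_subsets K p
    have h4 := K.card_mul_index
    rw [hK, hG, pow_succ, mul_assoc, Nat.mul_right_inj (pow_ne_zero _ hp.out.ne_zero)] at h4
    rw [h4, hK, ← pow_succ, Nat.card_eq_fintype_card, Fintype.card_subtype] at h3
    rw [← Finset.card_filter, ← h3, hB, Finset.filter_filter]
  have hst : ∀ S ∈ B, ∃ j ≤ a + 1, #(stabilizer G S) = p ^ j := fun S hS =>
    (Nat.dvd_prime_pow hp.out).1 ((Finset.mem_filter.1 hS).2 ▸ FG.card_stabilizer_dvd_ncard S)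
  set B0 := B.filter (fun S => #(stabilizer G S) < p ^ a) with hB0
  have h3 : p ^ 2 * m ∣ B0.card := by
    rw [← Set.ncard_coe_finset]
    refine dvd_ncard_of_forall_dvd_orbit (G := G) _ (fun g S hS => ?_) fun S hS => ?_
    · simp only [hB0, hB, Finset.coe_filter, Finset.mem_filter, Finset.mem_univ, true_and,
        Set.mem_ofPred_eq] at hS ⊢
      rw [Set.ncard_smul_set, stabilizer_smul_eq_stabilizer_map_conj]
      exact ⟨hS.1, (card_cj g _).trans_lt hS.2⟩
    · obtain ⟨hS, hlt⟩ := Finset.mem_filter.1 hS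
      obtain ⟨j, -, e⟩ := hst S hS
      rw [e, Nat.pow_lt_pow_iff_right hp.out.one_lt] at hlt
      have := card_mul_index (stabilizer G S)
      obtain ⟨i, rfl⟩ := Nat.exists_eq_add_of_lt hlt
      rw [e, hG, show j + i + 1 + 1 = j + (i + 2) by ring, pow_add, mul_assoc,
        Nat.mul_right_inj (pow_ne_zero _ hp.out.ne_zero)] at this
      rw [this, pow_add, mul_assoc]; exact dvd_mul_left _ _
  have h4 := sum_stabilizer_eq hG (fun H => (nsub (p ^ a) H : ℤ) - 1) fun g H => by rw [nsub_cj]
  have h5 : ∑ S ∈ B, ((nsub (p ^ a) (stabilizer G S) : ℤ) - 1) =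
      ∑ S ∈ Finset.univ.filter (fun S : Set G => S.ncard = p ^ (a + 1) ∧ #(stabilizer G S) = p ^ (a + 1)),
        ((nsub (p ^ a) (stabilizer G S) : ℤ) - 1) - B0.card := by
    rw [← Finset.filter_filter, ← hB, Finset.sum_filter (s := B), hB0, Finset.card_filter, Nat.cast_sum,
      ← Finset.sum_sub_distrib]
    refine Finset.sum_congr rfl fun S hS => ?_
    obtain ⟨j, hj, e⟩ := hst S hS
    have hi := Nat.pow_right_injective hp.out.two_le
    rcases lt_trichotomy j a with h | rfl | h
    · have h6 : p ^ j < p ^ a := Nat.pow_lt_pow_right hp.out.one_lt h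
      rw [nsub_of_lt (e ▸ h6), e, if_neg (fun h' => by have := hi h'; omega), if_pos h6]; simp
    · rw [← e, nsub_self, e, if_neg (fun h' => by have := hi h'; omega), if_neg (lt_irrefl _)]; simp
    · obtain rfl : j = a + 1 := by omega
      rw [e, if_pos rfl, if_neg (Nat.pow_le_pow_right hp.out.pos (by omega)).not_gt]; simp
  rw [h4, Finset.sum_sub_distrib, ← Nat.cast_sum, h2, Finset.sum_const, h1] at h5
  rw [Int.modEq_iff_dvd]
  obtain ⟨c, hc⟩ := h3
  refine ⟨c, ?_⟩
  rw [hc] at h5
  push_cast at h5 ⊢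
  simp only [nsmul_eq_mul, mul_one] at h5
  linarith

omit hp in
theorem card_cyclic_subgroups_mul (n : ℕ) :
    Nat.card {H : Subgroup G // #H = n ∧ IsCyclic H} * n.totient = Nat.card {x : G // orderOf x = n} := by
  classical
  let f : {x : G // orderOf x = n} → {H : Subgroup G // #H = n ∧ IsCyclic H} := fun x =>
    ⟨zpowers x.1, by rw [Nat.card_zpowers, x.2], inferInstance⟩
  have := Fintype.ofFinite {H : Subgroup G // #H = n ∧ IsCyclic H}
  rw [← Nat.card_congr (Equiv.sigmaFiberEquiv f), Nat.card_sigma, Finset.sum_congr rfl (g := fun _ => n.totient)]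
  · simp
  · rintro ⟨H, hH, hc⟩ -
    have e : {x // f x = ⟨H, hH, hc⟩} ≃ {y : H // orderOf y = n} :=
      { toFun := fun x => ⟨⟨x.1.1, by
          have := congrArg Subtype.val x.2
          exact (show zpowers x.1.1 = H from this).le (mem_zpowers _)⟩, by
            rw [← orderOf_coe]; exact x.1.2⟩
        invFun := fun y =>
          have ho : orderOf (y.1 : G) = n := by rw [orderOf_coe]; exact y.2
          ⟨⟨y.1, ho⟩, Subtype.ext (eq_of_card_le (zpowers_le.2 y.1.2) (by rw [Nat.card_zpowers, ho, hH]))⟩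
        left_inv := fun x => rfl
        right_inv := fun y => rfl }
    have := Fintype.ofFinite H
    rw [Nat.card_congr e, Nat.card_eq_fintype_card, Fintype.card_subtype,
      IsCyclic.card_orderOf_eq_totient (by rw [← Nat.card_eq_fintype_card, hH])]

theorem dvd_card_cyclic_subgroups (h2 : p ≠ 2) {a : ℕ} {U : Subgroup G} (hU : #U = p ^ (a + 1))
    (hc : ¬ IsCyclic U) : p ∣ Nat.card {H : Subgroup G // #H = p ^ (a + 1) ∧ IsCyclic H} := by
  have h1 := FG.dvd_card_pow_eq_one (G := G) (n := p ^ (a + 1)) (hU ▸ card_subgroup_dvd_card U)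
  have h3 : p ^ (a + 1) ∣ Nat.card {g : G // g ^ p ^ a = 1} := by
    rw [← hU]
    refine FG.card_dvd_of_brauer U {g | g ^ p ^ a = 1} (fun h _ x hx => ?_) fun x hx V hV hxV u hu => ?_
    · simp only [Set.mem_ofPred_eq] at hx ⊢; rw [conj_pow, hx]; simp
    · simp only [Set.mem_ofPred_eq] at hx ⊢
      rcases hV.eq_or_lt with rfl | hlt
      · have := FG.isConj_mul_pow_noncyclic (IsPGroup.of_card hU) h2 hc (hU.trans (pow_succ' _ _)) hxV hu
        rwa [hx, isConj_one_right] at this
      · obtain ⟨j, hj, e⟩ := (Nat.dvd_prime_pow hp.out).1 (hU ▸ cardSg hV)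
        have h4 := proper_card hlt
        rw [e, hU, Nat.pow_lt_pow_iff_right hp.out.one_lt] at h4
        have := (FG.isConj_mul_pow_card (IsPGroup.of_card e) hxV hu).pow (p ^ (a - j))
        rwa [← pow_mul, ← pow_mul, e, ← pow_add, show j + (a - j) = a by omega, hx, isConj_one_right] at this
  have h4 : Nat.card {g : G // g ^ p ^ (a + 1) = 1} =
      Nat.card {g : G // g ^ p ^ a = 1} + Nat.card {x : G // orderOf x = p ^ (a + 1)} := by
    change Set.ncard {g : G | g ^ p ^ (a + 1) = 1} =
      Set.ncard {g : G | g ^ p ^ a = 1} + Set.ncard {x : G | orderOf x = p ^ (a + 1)}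
    rw [← Set.ncard_union_eq (Set.disjoint_left.2 fun x hx hx' => ?_)]
    · congr 1
      ext x
      simp only [Set.mem_ofPred_eq, Set.mem_union]
      constructor
      · intro h
        by_cases h' : x ^ p ^ a = 1
        · exact Or.inl h'
        · exact Or.inr (orderOf_eq_prime_pow h' h)
      · rintro (h | h)
        · rw [pow_succ, pow_mul, h, one_pow]
        · rw [← h, pow_orderOf_eq_one]
    · have := orderOf_dvd_of_pow_eq_one hx
      rw [show orderOf x = p ^ (a + 1) from hx', Nat.pow_dvd_pow_iff_le_right hp.out.one_lt] at this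
      omega
  rw [h4, ← card_cyclic_subgroups_mul, Nat.totient_prime_pow_succ hp.out] at h1
  have h5 := (Nat.dvd_add_right h3).1 h1
  rw [mul_left_comm, pow_succ, Nat.mul_dvd_mul_iff_left (pow_pos hp.out.pos _)] at h5
  exact Nat.Coprime.dvd_of_dvd_mul_right
    ((Nat.coprime_self_sub_right hp.out.one_le).2 (Nat.coprime_one_right p)) h5

/-- The number of subgroups of order `p ^ a` modulo `p ^ 2`. -/
theorem card_subgroups_modEq_noncyclic {a : ℕ} (h : p ^ (a + 1) ∣ Nat.card G) :
    Nat.card {H : Subgroup G // #H = p ^ a} ≡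
      1 + p * Nat.card {H : Subgroup G // #H = p ^ (a + 1) ∧ ¬ IsCyclic H} [MOD p ^ 2] := by
  classical
  obtain ⟨m, hm⟩ := h
  have : NeZero (Nat.card G) := ⟨Nat.card_pos.ne'⟩
  have hm0 : m ≠ 0 := by rintro rfl; exact NeZero.ne _ hm
  have := Fintype.ofFinite G
  have h1 := kulakoff_identity hm
  have hc : Nat.card (Multiplicative (ZMod (Nat.card G))) = Nat.card G := by simp
  have h2 := kulakoff_identity (hc.trans hm)
  have hc' : IsCyclic (⊤ : Subgroup (Multiplicative (ZMod (Nat.card G)))) := inferInstance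
  have h3 : ∀ k, k ∣ Nat.card G → Nat.card {H : Subgroup (Multiplicative (ZMod (Nat.card G))) // #H = k} = 1 := by
    intro k hk
    have := nsub_of_cyclic hc' (n := k) (by rwa [card_top, hc])
    simpa [nsub] using this
  rw [h3 _ ⟨p * m, by rw [hm]; ring⟩, Finset.sum_eq_zero (fun H hH => by
    rw [nsub_of_cyclic inferInstance (by rw [(Finset.mem_filter.1 hH).2]; exact pow_dvd_pow _ (by omega))]
    simp), hc] at h2
  have h4 := h1.trans h2.symm
  have : NeZero (p * m) := ⟨mul_ne_zero hp.out.ne_zero hm0⟩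
  have h5 := FG.choose_modEq_card_subgroups (G := Multiplicative (ZMod (p * m))) (p := p) (k := 1) (m := m)
    (by simp)
  have h6 : Nat.card {H : Subgroup (Multiplicative (ZMod (p * m))) // #H = p ^ 1} = 1 := by
    have := nsub_of_cyclic (H := (⊤ : Subgroup (Multiplicative (ZMod (p * m))))) inferInstance (n := p ^ 1)
      (by simp)
    simpa [nsub] using this
  rw [h6, show Nat.card (Multiplicative (ZMod (p * m))) = p * m by simp, pow_one, one_mul] at h5
  obtain ⟨u, hu⟩ := (Nat.modEq_iff_dvd.1 h5.symm)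
  obtain ⟨t, ht⟩ := (Nat.modEq_iff_dvd.1 (FG.card_subgroups_modEq_one (G := G) (p := p) (k := a)
    ⟨p * m, by rw [hm]; ring⟩).symm)
  have h7 : ∑ H ∈ Finset.univ.filter (fun H : Subgroup G => #H = p ^ (a + 1)), ((nsub (p ^ a) H : ℤ) - 1) ≡
      p * Nat.card {H : Subgroup G // #H = p ^ (a + 1) ∧ ¬ IsCyclic H} [ZMOD (p ^ 2 : ℕ)] := by
    rw [Nat.card_eq_fintype_card, Fintype.card_subtype, ← Finset.filter_filter, Finset.card_filter, Nat.cast_sum,
      Finset.mul_sum]
    refine Int.ModEq.sum fun H hH => ?_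
    have hH := (Finset.mem_filter.1 hH).2
    by_cases hcy : IsCyclic H
    · rw [nsub_of_cyclic hcy (by rw [hH]; exact pow_dvd_pow _ (by omega))]; simp [hcy]
    · have := (Int.natCast_modEq_iff.2 (nsub_of_noncyclic hH hcy)).sub_right 1
      simpa [hcy] using this
  obtain ⟨v, hv⟩ := Int.modEq_iff_dvd.1 h7
  obtain ⟨w, hw⟩ := Int.modEq_iff_dvd.1 h4
  rw [Nat.modEq_iff_dvd]
  refine ⟨v + t * u + w, ?_⟩
  have hm' : (m : ℤ) ≠ 0 := by exact_mod_cast hm0
  apply mul_left_cancel₀ hm'
  push_cast at hu ht hv hw ⊢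
  linear_combination m * hv + hw + (p * t) * hu + ((p * m).choose p - m : ℤ) * ht

end Cfsg.Agent.Gen2
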