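import Cfsg.Agent.BG.Base4
import Cfsg.Agent.Transfer.Hol
import Cfsg.Agent.Transfer.Frobenius
import Cfsg.Agent.Gen2.Basic

/-!
Minimal non-centralised invariant `p`-subgroups for a group `K` generated by `p'`-elements
(`PGen`): `min_inv` (`[P, K] = P`, `Φ(P) ≤ C(K) ∩ Z(P)`), `pow_eq_one_of_min` (exponent `p` or `4`),
and the criteria `le_centralizer_of_small` (`K` centralises `P` as soon as it centralises every
invariant subgroup of exponent `p` or `4`), `le_centralizer_of_omega4`, `le_centralizer_of_real`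
(`p = 2`: it is enough to centralise the real elements of order dividing `4`),
`npc_of_omega4`, `npc_of_real` (normal `p`-complement theorems).
-/

namespace Cfsg.Agent.Gen2

open Subgroup Cfsg.Agent.BG
open scoped commutatorElement

variable {G : Type*} [Group G] [Finite G] {B K P : Subgroup G} {p : ℕ}

/-- `K` is generated by its `p'`-elements. -/
def PGen (p : ℕ) (K : Subgroup G) : Prop := K ≤ closure {g | g ∈ K ∧ (orderOf g).Coprime p}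

omit [Finite G] in
theorem pGen_of_coprime (h : (Nat.card K).Coprime p) : PGen p K := fun _ hg =>
  subset_closure ⟨hg, h.coprime_dvd_left (K.orderOf_dvd_natCard hg)⟩

omit [Finite G] in
theorem pGen_pResidual : PGen p (pResidual p G) :=
  Transfer.pResidual_le_iff.2 fun _ hg => subset_closure ⟨Transfer.mem_pResidual_of_coprime hg, hg⟩

theorem PGen.le_centralizer [Fact p.Prime] (hK : PGen p K) (hP : IsPGroup p P) (hn : K ≤ N[P])
    (h : ⁅P, K⁆ ≤ C[K]) : P ≤ C[K] := by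
  refine le_centralizer_iff.1 (hK.trans ((closure_le _).2 fun g hg => ?_))
  have h1 := zpowers_le.2 hg.1
  exact zpowers_le.1 (le_centralizer_iff.1 (Solv.le_centralizer_of_commutator_le_centralizer
    (h1.trans hn) (Solv.coprime_card_of_isPGroup hP (by rw [Nat.card_zpowers]; exact hg.2)).symm
    ((commutator_mono le_rfl h1).trans (h.trans (centralizer_le h1)))))

theorem min_inv [Fact p.Prime] (hP : IsPGroup p P) (hBP : B ≤ N[P]) (hKB : K ≤ B)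
    (hBK : B ≤ N[K]) (hK : PGen p K) (hnt : ¬ P ≤ C[K])
    (hmin : ∀ U < P, B ≤ N[U] → U ≤ C[K]) : ⁅P, K⁆ = P ∧ Phi P ≤ C[K] ∧ Phi P ≤ C[P] := by
  have hA : K ≤ N[P] := hKB.trans hBP
  have h1 : ⁅P, K⁆ = P := by
    by_contra hne
    exact hnt (hK.le_centralizer hP hA
      (hmin _ (lt_of_le_of_ne (commg_subl hA) hne) (normsR hBP hBK)))
  have hP0 : P ≠ ⊥ := fun h => hnt (h ▸ bot_le)
  have h2 : Phi P ≤ C[K] := hmin _ (Phi_proper hP0) (norms_Phi hBP)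
  exact ⟨h1, h2, cents_symm (Transfer.le_centralizer_of_commutator_eq h1 (Phi_normal P).norm h2)⟩

omit [Finite G] in
theorem pow_mem_of_commutator_eq {M : Subgroup G} {n : ℕ} (hn : K ≤ N[P]) (h1 : ⁅P, K⁆ = P)
    (h2 : ∀ x ∈ P, x ^ n ∈ C[K]) (h3 : ∀ x ∈ P, ∀ y ∈ P, ∃ m ∈ M, (x * y) ^ n = x ^ n * y ^ n * m)
    {x : G} (hx : x ∈ P) : x ^ n ∈ M := by
  let S : Subgroup G :=
    { carrier := {x | x ∈ P ∧ x ^ n ∈ M}
      one_mem' := ⟨P.one_mem, by simp⟩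
      mul_mem' := fun {a b} ha hb => ⟨P.mul_mem ha.1 hb.1, by
        obtain ⟨m, hm, e⟩ := h3 a ha.1 b hb.1
        rw [e]; exact M.mul_mem (M.mul_mem ha.2 hb.2) hm⟩
      inv_mem' := fun {a} ha => ⟨P.inv_mem ha.1, by rw [inv_pow]; exact M.inv_mem ha.2⟩ }
  have h : ⁅P, K⁆ ≤ S := commutator_le.2 fun a ha k hk => by
    have h4 := Solv.conj_mem_of_le_normalizer hn hk (P.inv_mem ha)
    have e : ⁅a, k⁆ = a * (k * a⁻¹ * k⁻¹) := by group
    rw [e]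
    refine ⟨P.mul_mem ha h4, ?_⟩
    obtain ⟨m, hm, e⟩ := h3 a ha _ h4
    rw [e, conj_pow, h2 _ (P.inv_mem ha) k hk]
    simpa using hm
  exact (h (h1.ge hx)).2

omit [Finite G] in
theorem mul_pow_of_central {x y : G} (hx : Commute ⁅y⁻¹, x⁻¹⁆ x) (hy : Commute ⁅y⁻¹, x⁻¹⁆ y)
    (n : ℕ) : (x * y) ^ n = x ^ n * y ^ n * ⁅y⁻¹, x⁻¹⁆ ^ n.choose 2 := by
  have := Transfer.mul_pow_of_class_three (x := x) (y := y) (r := ⁅y⁻¹, x⁻¹⁆) (u := 1) (v := 1)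
    (by group) (by rw [mul_one, hx.eq]) (by rw [mul_one, hy.eq]) (fun _ => Commute.one_left _)
    (fun _ => Commute.one_left _) n
  simpa using this

theorem pow_eq_one_of_min [hp : Fact p.Prime] (hP : IsPGroup p P) (hn : K ≤ N[P])
    (h1 : ⁅P, K⁆ = P) (h2 : Phi P ≤ C[K]) (h3 : Phi P ≤ C[P]) {x : G} (hx : x ∈ P) :
    x ^ p = 1 ∨ (p = 2 ∧ x ^ 4 = 1) := by
  have hc : ∀ a ∈ P, ∀ b ∈ P, ∀ c ∈ P, Commute ⁅a, b⁆ c := fun a ha b hb c hc =>
    (h3 (der1_sub_Phi hP.isNilpotent (commutator_mem_commutator ha hb)) c hc).symm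
  have hpow : ∀ a ∈ P, ∀ b ∈ P, ⁅a, b⁆ ^ p = 1 := fun a ha b hb => by
    have e := Transfer.mul_pow_eq_pow_mul (r := a⁻¹) (y := b⁻¹) (v := ⁅a, b⁆) (by group)
      (hc a ha b hb _ (P.inv_mem hb)) (hc a ha b hb _ (P.inv_mem ha)) p
    rw [h3 (pow_mem_Phi hP (P.inv_mem hb)) _ (P.inv_mem ha)] at e
    exact left_eq_mul.1 e
  have key : ∀ n, p ∣ n → p ∣ n.choose 2 → x ^ n = 1 := fun n ⟨a, ha⟩ ⟨b, hb⟩ => by
    refine mem_bot.1 (pow_mem_of_commutator_eq hn h1 (fun y hy => ?_)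
      (fun y hy z hz => ⟨1, one_mem _, ?_⟩) hx)
    · rw [ha, pow_mul]; exact pow_mem (h2 (pow_mem_Phi hP hy)) _
    · rw [mul_pow_of_central (hc _ (P.inv_mem hz) _ (P.inv_mem hy) _ hy)
        (hc _ (P.inv_mem hz) _ (P.inv_mem hy) _ hz), hb, pow_mul,
        hpow _ (P.inv_mem hz) _ (P.inv_mem hy), one_pow]
  by_cases h : p = 2
  · exact Or.inr ⟨h, key 4 (by rw [h]; norm_num) (by rw [h]; decide)⟩
  · exact Or.inl (key p dvd_rfl (hp.out.dvd_choose_self two_ne_zero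
      (lt_of_le_of_ne hp.out.two_le (Ne.symm h))))

theorem exists_min_inv (hBP : B ≤ N[P]) (hnt : ¬ P ≤ C[K]) :
    ∃ U ≤ P, B ≤ N[U] ∧ ¬ U ≤ C[K] ∧ ∀ V < U, B ≤ N[V] → V ≤ C[K] := by
  obtain ⟨U, h1, h2⟩ := exists_minimal_le_of_wellFoundedLT
    (fun U : Subgroup G => B ≤ N[U] ∧ ¬ U ≤ C[K]) P ⟨hBP, hnt⟩
  exact ⟨U, h1, h2.1.1, h2.1.2, fun V hV h => by_contra fun h' => hV.not_ge (h2.2 ⟨h, h'⟩ hV.le)⟩

theorem le_centralizer_of_small [Fact p.Prime] (hP : IsPGroup p P) (hBP : B ≤ N[P]) (hKB : K ≤ B)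
    (hBK : B ≤ N[K]) (hK : PGen p K) (h : ∀ U ≤ P, B ≤ N[U] → ⁅U, K⁆ = U →
      (∀ x ∈ U, x ^ p = 1 ∨ (p = 2 ∧ x ^ 4 = 1)) → U ≤ C[K]) : P ≤ C[K] := by
  by_contra hnt
  obtain ⟨U, h1, h2, h3, h4⟩ := exists_min_inv hBP hnt
  obtain ⟨h5, h6, h7⟩ := min_inv (hP.to_le h1) h2 hKB hBK hK h3 h4
  exact h3 (h U h1 h2 h5 fun x hx => pow_eq_one_of_min (hP.to_le h1) (hKB.trans h2) h5 h6 h7 hx)

theorem le_centralizer_of_omega4 [Fact p.Prime] (hP : IsPGroup p P) (hn : K ≤ N[P])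
    (hK : PGen p K) (h : ∀ x ∈ P, x ^ p = 1 ∨ (p = 2 ∧ x ^ 4 = 1) → x ∈ C[K]) : P ≤ C[K] :=
  le_centralizer_of_small hP hn le_rfl le_normalizer hK fun _ hU _ _ h' x hx => h x (hU hx) (h' x hx)

theorem le_centralizer_of_real (hP : IsPGroup 2 P) (hn : K ≤ N[P]) (hK : PGen 2 K)
    (h : ∀ x ∈ P, x ^ 4 = 1 → (∃ y ∈ P, y * x * y⁻¹ = x⁻¹) → x ∈ C[K]) : P ≤ C[K] := by
  by_contra hnt
  obtain ⟨U, h1, h2, h3, h4⟩ := exists_min_inv hn hnt
  have hU := hP.to_le h1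
  obtain ⟨h5, h6, h7⟩ := min_inv hU h2 le_rfl le_normalizer hK h3 h4
  have hd : ∀ a ∈ U, ∀ b ∈ U, ⁅a, b⁆ ∈ Phi U := fun a ha b hb =>
    der1_sub_Phi hU.isNilpotent (commutator_mem_commutator ha hb)
  have hc : ∀ a ∈ U, ∀ b ∈ U, ∀ c ∈ U, Commute ⁅a, b⁆ c := fun a ha b hb c hc =>
    (h7 (hd a ha b hb) c hc).symm
  refine h3 fun u hu => ?_
  let M : Subgroup G :=
    { carrier := {z | ∃ y ∈ U, z = ⁅u, y⁆}
      one_mem' := ⟨1, U.one_mem, by simp⟩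
      mul_mem' := by
        rintro _ _ ⟨a, ha, rfl⟩ ⟨b, hb, rfl⟩
        refine ⟨a * b, U.mul_mem ha hb, ?_⟩
        have : ⁅u, a * b⁆ = ⁅u, a⁆ * (a * ⁅u, b⁆ * a⁻¹) := by group
        rw [this, ← (hc u hu b hb a ha).eq, mul_inv_cancel_right]
      inv_mem' := by
        rintro _ ⟨a, ha, rfl⟩
        refine ⟨a⁻¹, U.inv_mem ha, ?_⟩
        have : ⁅u, a⁻¹⁆ = a⁻¹ * ⁅u, a⁆⁻¹ * a := by group
        rw [this, mul_assoc, (hc u hu a ha a ha).inv_left.eq, inv_mul_cancel_left] }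
  let R : Subgroup G :=
    { carrier := {x | x ∈ U ∧ ∀ y ∈ U, ⁅x, y⁆ ∈ M}
      one_mem' := ⟨U.one_mem, fun y _ => by simp⟩
      mul_mem' := fun {a b} ha hb => ⟨U.mul_mem ha.1 hb.1, fun y hy => by
        have : ⁅a * b, y⁆ = (a * ⁅b, y⁆ * a⁻¹) * ⁅a, y⁆ := by group
        rw [this, ← (hc b hb.1 y hy a ha.1).eq, mul_inv_cancel_right]
        exact M.mul_mem (hb.2 y hy) (ha.2 y hy)⟩
      inv_mem' := fun {a} ha => ⟨U.inv_mem ha.1, fun y hy => by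
        have : ⁅a⁻¹, y⁆ = a⁻¹ * ⁅a, y⁆⁻¹ * a := by group
        rw [this, mul_assoc, (hc a ha.1 y hy a ha.1).inv_left.eq, inv_mul_cancel_left]
        exact M.inv_mem (ha.2 y hy)⟩ }
  have huR : u ∈ R := ⟨hu, fun y hy => ⟨y, hy, rfl⟩⟩
  rcases (show R ≤ U from fun _ h => h.1).lt_or_eq with hR | hR
  · refine h4 R hR (fun k hk => mem_normalizer_fintype fun x hx =>
      ⟨Solv.conj_mem_of_le_normalizer h2 hk hx.1, fun y hy => ?_⟩) huR
    have h8 := Solv.conj_mem_of_le_normalizer' h2 hk hy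
    have : ⁅k * x * k⁻¹, y⁆ = k * ⁅x, k⁻¹ * y * k⁆ * k⁻¹ := by group
    rw [this, h6 (hd x hx.1 _ h8) k hk, mul_inv_cancel_right]
    exact hx.2 _ h8
  · obtain ⟨y, hy, e⟩ : u ^ 2 ∈ M := pow_mem_of_commutator_eq h2 h5
      (fun x hx => h6 (pow_mem_Phi hU hx)) (fun x hx y hy => ⟨_, (hR.ge (U.inv_mem hy)).2 _
        (U.inv_mem hx), by
          rw [mul_pow_of_central (hc _ (U.inv_mem hy) _ (U.inv_mem hx) _ hx)
            (hc _ (U.inv_mem hy) _ (U.inv_mem hx) _ hy)]; simp⟩) hu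
    refine h u (h1 hu) ((pow_eq_one_of_min hU h2 h5 h6 h7 hu).elim (fun h => ?_) And.right)
      ⟨y, h1 hy, ?_⟩
    · rw [show 4 = 2 * 2 from rfl, pow_mul, h, one_pow]
    · calc y * u * y⁻¹ = (u⁻¹ * ⁅u, y⁆)⁻¹ := by group
        _ = u⁻¹ := by rw [← e]; group

theorem npc_of_omega4 [Fact p.Prime] (h : ∀ x g : G, x ^ p = 1 ∨ (p = 2 ∧ x ^ 4 = 1) →
    (orderOf g).Coprime p → Commute g x) : HasNormalPComplement p G :=
  Transfer.hasNormalPComplement_of_forall_isPGroup fun _ hQ _ g hg hc =>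
    zpowers_le.1 (le_centralizer_iff.1 (le_centralizer_of_omega4 hQ (zpowers_le.2 hg)
      (pGen_of_coprime (by rwa [Nat.card_zpowers])) fun x _ hx =>
        by rw [C_zpowers]; exact mem_cent.2 (h x g hx hc).symm))

theorem npc_of_real (h : ∀ x g : G, x ^ 4 = 1 → IsConj x x⁻¹ → Odd (orderOf g) → Commute g x) :
    HasNormalPComplement 2 G :=
  Transfer.hasNormalPComplement_of_forall_isPGroup fun _ hQ _ g hg hc =>
    zpowers_le.1 (le_centralizer_iff.1 (le_centralizer_of_real hQ (zpowers_le.2 hg)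
      (pGen_of_coprime (by rwa [Nat.card_zpowers])) fun x _ hx ⟨y, _, hy⟩ => by
        rw [C_zpowers]
        exact mem_cent.2 (h x g hx (isConj_iff.2 ⟨y, hy⟩) (Nat.coprime_two_right.1 hc)).symm))

end Cfsg.Agent.Gen2
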