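import Cfsg.Agent.BG.S3Gen
import Cfsg.Agent.PGrp.Basic
import Cfsg.Agent.PLocal.Stable

/-! `SE p P Z`: the properties of the normal Sylow subgroup `P` of a minimal non-nilpotent group
(with `Z` the fixed points of the acting element) used for `p`-length one: `se_of_aut`, `SE.map`,
`SE.le_of_abelem` (a Sylow subgroup with `SE` lies in a self-centralising elementary `O_p`). -/

set_option autoImplicit false

namespace Cfsg.Agent.Gen2

open Subgroup Cfsg.Agent.BG Cfsg.Agent.PGrp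
open scoped commutatorElement

/-- Semi-extraspecial-type data. -/
structure SE (p : ℕ) {G : Type*} [Group G] (P Z : Subgroup G) : Prop where
  le : Z ≤ P
  der : ⁅P, P⁆ ≤ Z
  cent : Z ≤ C[P]
  pow : ∀ g ∈ P, g ^ p ∈ Z
  star : ∀ Z₀ ≤ Z, ∀ y ∈ P, y ∉ Z → (∀ g ∈ P, ⁅y, g⁆ ∈ Z₀) → ⁅P, P⁆ ≤ Z₀
  small : p ≤ 3 → ∀ w ∈ P, ∀ y ∈ P, w ∉ Z → P ≤ Z ⊔ zpowers w ⊔ zpowers y → ⁅P, P⁆ ≤ zpowers (w ^ p)

theorem SE.map {p : ℕ} {G G' : Type*} [Group G] [Group G'] {P Z : Subgroup G} (h : SE p P Z) (f : G →* G')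
    (hk : P ⊓ f.ker ≤ Z) : SE p (P.map f) (Z.map f) where
  le := map_mono h.le
  der := by rw [← map_commutator]; exact map_mono h.der
  cent := by
    rintro _ ⟨z, hz, rfl⟩
    rw [mem_centralizer_iff]
    rintro _ ⟨g, hg, rfl⟩
    rw [← map_mul, ← map_mul, mem_centralizer_iff.1 (h.cent hz) g hg]
  pow := by rintro _ ⟨g, hg, rfl⟩; exact ⟨_, h.pow g hg, map_pow f g p⟩
  star := by
    rintro Z₀ - _ ⟨y, hy, rfl⟩ hy' H
    rw [← map_commutator, map_le_iff_le_comap]
    refine (h.star (Z ⊓ Z₀.comap f) inf_le_left y hy (fun e => hy' ⟨y, e, rfl⟩) fun g hg =>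
      ⟨h.der (commutator_mem_commutator hy hg), ?_⟩).trans inf_le_right
    have := H _ ⟨g, hg, rfl⟩
    rwa [← map_commutatorElement] at this
  small := by
    rintro hp _ ⟨w, hw, rfl⟩ _ ⟨y, hy, rfl⟩ hw' H
    rw [← map_commutator, ← map_pow, ← MonoidHom.map_zpowers]
    refine map_mono (h.small hp w hw y hy (fun e => hw' ⟨w, e, rfl⟩) fun g hg => ?_)
    rw [← MonoidHom.map_zpowers, ← MonoidHom.map_zpowers, ← Subgroup.map_sup, ← Subgroup.map_sup] at H
    obtain ⟨u, hu, e⟩ := H ⟨g, hg, rfl⟩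
    have hu' : u ∈ P := (sup_le (sup_le h.le (zpowers_le.2 hw)) (zpowers_le.2 hy)) hu
    have : u⁻¹ * g ∈ Z := hk ⟨P.mul_mem (P.inv_mem hu') hg, by simp [e]⟩
    simpa using mul_mem hu (mem_sup_left (mem_sup_left this))

theorem se_of_aut {P : Type*} [Group P] [Finite P] {p q : ℕ} [hp : Fact p.Prime] [hq : Fact q.Prime] (hne : p ≠ q)
    (hP : IsPGroup p P) (α : MulAut P) (h1 : α ≠ 1) (hα : α ^ q = 1)
    (hmin : ∀ U : Subgroup P, U ≠ ⊤ → (∀ u ∈ U, α u ∈ U) → ∀ u ∈ U, α u = u) :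
    SE p ⊤ (α.toMonoidHom.eqLocus (MonoidHom.id P)) := by
  set F := α.toMonoidHom.eqLocus (MonoidHom.id P) with hF
  have mF : ∀ u, u ∈ F ↔ α u = u := fun u => Iff.rfl
  have hFt : F ≠ ⊤ := fun h => h1 (MulEquiv.ext fun u => (mF u).1 (h ▸ mem_top u))
  have : Nontrivial P := by
    by_contra h
    exact hFt (@Subsingleton.elim _ (@Unique.instSubsingleton _ (@uniqueOfSubsingleton _ (by
      have := not_nontrivial_iff_subsingleton.1 h; infer_instance) ⊤)) _ _)
  have hPhi : Phi (⊤ : Subgroup P) ≤ F := by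
    rw [Phi_top]
    refine hmin _ (by rw [← Phi_top]; exact (Phi_proper (top_ne_bot)).ne) fun u hu => ?_
    exact (characteristic_iff_map_le.1 inferInstance α) ⟨u, hu, rfl⟩
  have hP' : IsPGroup p (⊤ : Subgroup P) := hP.to_subgroup ⊤
  obtain ⟨hder, hpow⟩ := (Phi_min hP').1 hPhi
  have cF : ∀ a b : P, α ⁅a, b⁆ = ⁅a, b⁆ := fun a b => hder (commutator_mem_commutator (mem_top a) (mem_top b))
  have nall : ¬ ∀ g, g⁻¹ * α g ∈ F := fun H => h1 (MulEquiv.ext fun g => by
    have e : ∀ n : ℕ, (α ^ n) g = g * (g⁻¹ * α g) ^ n := fun n => by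
      induction n with
      | zero => simp
      | succ n ih => rw [pow_succ', MulAut.mul_apply, ih, map_mul, map_pow, (mF _).1 (H g), pow_succ', ← mul_assoc,
          mul_inv_cancel_left]
    have e1 := e q
    rw [hα, MulAut.one_apply, left_eq_mul] at e1
    obtain ⟨k, hk⟩ := hP (g⁻¹ * α g)
    have := (pow_gcd_eq_one.2 ⟨e1, hk⟩)
    rw [((Nat.coprime_primes hq.out hp.out).2 hne.symm).pow_right k, pow_one, inv_mul_eq_one] at this
    exact this.symm)
  have hcent : F ≤ C[(⊤ : Subgroup P)] := by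
    rw [le_centralizer_iff]
    by_contra hc
    refine nall fun g => hmin C[F] (fun e => hc e.ge) (fun u hu => mem_centralizer_iff.2 fun f hf => ?_) _
      (mem_centralizer_iff.2 fun f hf => ?_)
    · rw [← (mF f).1 hf, ← map_mul, ← map_mul, mem_centralizer_iff.1 hu f hf]
    · have := cF g f
      rw [map_commutatorElement, (mF f).1 hf, commutatorElement_def, commutatorElement_def, mul_left_inj] at this
      calc f * (g⁻¹ * α g) = g⁻¹ * (g * f * g⁻¹) * α g := by group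
        _ = _ := by rw [← this]; group
  have cc : ∀ f ∈ F, ∀ g, Commute f g := fun f hf g => (mem_centralizer_iff.1 (hcent hf) g (mem_top g)).symm
  have hFn : F.Normal := ⟨fun f hf g => by rw [← (cc f hf g).eq, mul_inv_cancel_right]; exact hf⟩
  have hstar : ∀ Z₀ ≤ F, ∀ y, y ∉ F → (∀ g, ⁅y, g⁆ ∈ Z₀) → ⁅(⊤ : Subgroup P), ⊤⁆ ≤ Z₀ := fun Z₀ hZ y hy H => by
    let U : Subgroup P :=
      { carrier := {u | ∀ g, ⁅u, g⁆ ∈ Z₀}
        one_mem' := fun g => by simp
        mul_mem' := fun {a b} ha hb g => by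
          rw [commutator_mul_left (cc _ (cF _ _) _)]; exact mul_mem (hb g) (ha g)
        inv_mem' := fun {a} ha g => by rw [commutator_inv_left (cc _ (cF _ _) _)]; exact inv_mem (ha g) }
    have : U = ⊤ := by
      by_contra hU
      refine hy (hmin U hU (fun u hu g => ?_) y H)
      have := hu (α.symm g)
      rwa [← cF, map_commutatorElement, MulEquiv.apply_symm_apply] at this
    exact commutator_le.2 fun a _ b _ => (this ▸ mem_top a : a ∈ U) b
  have hexp : ∀ f ∈ F, f ^ p = 1 := by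
    let N : P →* Abelianization P := ∏ i ∈ Finset.range q, Abelianization.of.comp (α ^ i).toMonoidHom
    have hN : ∀ g, N g = ∏ i ∈ Finset.range q, Abelianization.of ((α ^ i) g) := fun g => by simp [N]
    have hNα : ∀ g, N (α g) = N g := fun g => by
      have e := (Finset.prod_range_succ (fun i => Abelianization.of ((α ^ i) g)) q).symm.trans
        (Finset.prod_range_succ' (fun i => Abelianization.of ((α ^ i) g)) q)
      rw [hα, pow_zero, mul_left_inj] at e
      rw [hN, hN, e]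
      simp [pow_succ]
    have hk : N.ker = ⊤ := by
      by_contra hk
      exact nall fun g => hmin _ hk (fun u hu => by rw [MonoidHom.mem_ker, hNα]; exact hu) _
        (by rw [MonoidHom.mem_ker, map_mul, map_inv, hNα, inv_mul_cancel])
    let E : Subgroup P :=
      { carrier := {f | f ∈ F ∧ f ^ p = 1}
        one_mem' := ⟨one_mem _, one_pow _⟩
        mul_mem' := fun {a b} ha hb => ⟨mul_mem ha.1 hb.1, by rw [(cc a ha.1 b).mul_pow, ha.2, hb.2, one_mul]⟩
        inv_mem' := fun {a} ha => ⟨inv_mem ha.1, by rw [inv_pow, ha.2, inv_one]⟩ }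
    have hE : commutator P ≤ E := commutator_le.2 fun a _ b _ => ⟨cF a b, by
      rw [← commutator_pow_left (cc _ (cF a b) a), commutatorElement_eq_one_iff_commute]
      exact cc _ (hpow a (mem_top a)) b⟩
    intro f hf
    refine (hE ?_).2
    have e1 : N f = 1 := (hk ▸ mem_top f : f ∈ N.ker)
    have e2 : ∀ i : ℕ, (α ^ i) f = f := fun i => (pow_mem (show α ∈ MulAction.stabilizer (MulAut P) f from hf) i)
    rw [hN] at e1
    simp only [e2, Finset.prod_const, Finset.card_range] at e1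
    obtain ⟨k, hk⟩ := hP f
    have := pow_gcd_eq_one.2 ⟨e1, show Abelianization.of f ^ p ^ k = 1 by rw [← map_pow, hk, map_one]⟩
    rwa [((Nat.coprime_primes hq.out hp.out).2 hne.symm).pow_right k, pow_one, ← MonoidHom.mem_ker,
      Abelianization.ker_of] at this
  refine ⟨le_top, hder, hcent, hpow, fun Z₀ hZ y _ hy H => hstar Z₀ hZ y hy fun g => H g (mem_top g),
    fun hp3 w _ y _ hw hgen => ?_⟩
  by_cases hab : (⁅(⊤ : Subgroup P), (⊤ : Subgroup P)⁆ : Subgroup P) = ⊥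
  · rw [hab]; exact bot_le
  have nF : ∀ u, u ∉ F → α u ∉ F ⊔ zpowers u := fun u hu h => by
    have hU : F ⊔ zpowers u = ⊤ := by
      by_contra hU
      refine hu (hmin _ hU (fun v hv => ?_) u (mem_sup_right (mem_zpowers u)))
      refine (sup_le (fun f hf => ?_) (zpowers_le.2 h) : _ ≤ (F ⊔ zpowers u).comap α.toMonoidHom) hv
      exact mem_sup_left (show α f ∈ F by rw [(mF f).1 hf]; exact hf)
    refine hab (eq_bot_iff.2 (hstar ⊥ bot_le u hu fun g => ?_))
    obtain ⟨f, hf, i, rfl⟩ := (mem_sup_zpowers (le_normalizer_of_normal (mem_top u))).1 (hU ▸ mem_top g)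
    exact commutatorElement_eq_one_iff_commute.2 ((cc f hf u).symm.mul_right ((Commute.refl u).zpow_right i))
  have nrm : ∀ (U : Subgroup P), F ≤ U → U.Normal := fun U hU => ⟨fun u hu g => by
    rw [show g * u * g⁻¹ = ⁅g, u⁆ * u by simp [commutatorElement_def]]
    exact mul_mem (hU (cF g u)) hu⟩
  have hwy : y ∉ F ⊔ zpowers w := fun h => nF w hw (by
    rw [sup_eq_left.2 (zpowers_le.2 h)] at hgen; exact hgen (mem_top _))
  have c1 : ∀ u, u ∉ F → #(F ⊔ zpowers u) = #F * p := fun u hu =>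
    card_sup_zpowers hp.out (le_normalizer_of_normal (mem_top u)) hu (hpow u (mem_top u))
  have c2 : ∀ u v, u ∉ F → v ∉ F ⊔ zpowers u → #(F ⊔ zpowers u ⊔ zpowers v) = #F * p * p := fun u v hu hv => by
    have := nrm (F ⊔ zpowers u) le_sup_left
    rw [← c1 u hu]
    exact card_sup_zpowers hp.out (le_normalizer_of_normal (mem_top v)) hv (mem_sup_left (hpow v (mem_top v)))
  have hcard : Nat.card P = #F * p * p := by rw [← c2 w y hw hwy, top_le_iff.1 hgen, card_top]
  have h23 : p = 2 ∨ p = 3 := by have := hp.out.two_le; omega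
  rcases h23 with rfl | rfl
  · have hw2 := nF w hw
    have hg2 : F ⊔ zpowers w ⊔ zpowers (α w) = ⊤ := eq_top_of_card_eq _ (by rw [c2 w _ hw hw2, hcard])
    have two : ∀ (U : Subgroup P) (u g : P), F ≤ U → g ∈ U ⊔ zpowers u → g ∈ U ∨ g * u⁻¹ ∈ U := fun U u g hU hg => by
      have := nrm U hU
      obtain ⟨f, hf, i, rfl⟩ := (mem_sup_zpowers (le_normalizer_of_normal (mem_top u))).1 hg
      have e : ∀ k : ℤ, u ^ (2 * k) ∈ U := fun k => by
        rw [zpow_mul]; exact zpow_mem (hU (by exact_mod_cast hpow u (mem_top u))) k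
      rcases Int.even_or_odd' i with ⟨k, rfl | rfl⟩
      · exact .inl (mul_mem hf (e k))
      · exact .inr (by rw [zpow_add_one, mul_assoc, mul_inv_cancel_right]; exact mul_mem hf (e k))
    have hv : w * α w ∉ F := fun h => hw2 (by
      simpa using mul_mem (mem_sup_right (inv_mem (mem_zpowers w)) : w⁻¹ ∈ F ⊔ zpowers w) (mem_sup_left h))
    have hv2 := nF _ hv
    have αF : ∀ u, α u ∈ F → u ∈ F := fun u hu => (mF u).2 (α.injective ((mF _).1 hu))
    have key : α (w * α w) * w⁻¹ ∈ F := by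
      rcases two _ (α w) (α (w * α w)) le_sup_left (hg2 ▸ mem_top _) with h | h
      · exact (two F w _ le_rfl h).resolve_left fun h => hv (αF _ h)
      · rcases two F w _ le_rfl h with h | h
        · rw [← map_inv, ← map_mul] at h
          have := hFn.conj_mem' _ (αF _ h) w
          exact absurd (mem_sup_left (by simpa [mul_assoc] using this)) hw2
        · refine absurd ?_ hv2
          have := mul_mem (mem_sup_left h : _ ∈ F ⊔ zpowers (w * α w)) (mem_sup_right (mem_zpowers _))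
          simpa [mul_assoc] using this
    have s1 : (α w) ^ 2 = w ^ 2 := by rw [← map_pow]; exact hpow w (mem_top w)
    have s2 : (w * α w) ^ 2 = w ^ 2 := by
      rw [← (mF _).1 (hpow (w * α w) (mem_top _)), map_pow, ← inv_mul_cancel_right (α (w * α w)) w,
        (cc _ key w).mul_pow, hexp _ key, one_mul]
    have s3 : ⁅w, α w⁆ = w ^ 2 := by
      rw [mul_pow_of_commute_commutator (cc _ (cF _ _) _) (cc _ (cF _ _) _), s1, ← pow_two (w ^ 2),
        hexp _ (hpow w (mem_top w)), mul_one, Nat.choose_self, pow_one] at s2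
      rw [← commutatorElement_inv, s2]
      exact inv_eq_of_mul_eq_one_left (by rw [← pow_two]; exact hexp _ (hpow w (mem_top w)))
    refine hstar _ (zpowers_le.2 (hpow w (mem_top w))) w hw fun g => ?_
    have := nrm (F ⊔ zpowers w) le_sup_left
    obtain ⟨u, hu, i, rfl⟩ := (mem_sup_zpowers (le_normalizer_of_normal (mem_top _))).1 (hg2 ▸ mem_top g)
    obtain ⟨f, hf, j, rfl⟩ := (mem_sup_zpowers (le_normalizer_of_normal (mem_top _))).1 hu
    rw [commutator_mul_right (cc _ (cF _ _) _), commutatorElement_eq_one_iff_commute.2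
      ((cc f hf w).symm.mul_right ((Commute.refl w).zpow_right j)), one_mul,
      commutator_zpow_right (cc _ (cF _ _) _), s3]
    exact zpow_mem (mem_zpowers _) i
  · have hm := (IsPGroup.of_card (G := zpowers α) (p := q) (n := 1) (by
      rw [Nat.card_zpowers, orderOf_eq_prime hα h1, pow_one])).card_modEq_card_fixedPoints P
    have e : Nat.card (MulAction.fixedPoints (zpowers α) P) = #F := Nat.card_congr (Equiv.subtypeEquivRight fun u =>
      ⟨fun h => h ⟨α, mem_zpowers α⟩, fun h a => (zpowers_le.2 (show α ∈ MulAction.stabilizer (MulAut P) u from h)) a.2⟩)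
    rw [e, hcard] at hm
    obtain ⟨k, hk⟩ := IsPGroup.iff_card.1 (hP.to_subgroup F)
    have h8 : q ∣ #F * 2 ^ 3 := by
      have := (Nat.modEq_iff_dvd' (by omega)).1 hm.symm
      rwa [show #F * 3 * 3 - #F = #F * 2 ^ 3 by omega] at this
    obtain rfl : q = 2 := by
      rcases (Nat.Prime.dvd_mul hq.out).1 h8 with h | h
      · exact absurd ((Nat.prime_dvd_prime_iff_eq hq.out hp.out).1 (hq.out.dvd_of_dvd_pow (hk ▸ h))).symm hne
      · exact (Nat.prime_dvd_prime_iff_eq hq.out Nat.prime_two).1 (hq.out.dvd_of_dvd_pow h)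
    have e2 : α (α w) = w := by rw [← MulAut.mul_apply, ← pow_two, hα, MulAut.one_apply]
    have hu : w⁻¹ * α w ∈ F := by
      by_contra hu
      refine nF _ hu (mem_sup_right ?_)
      rw [map_mul, map_inv, e2, show (α w)⁻¹ * w = (w⁻¹ * α w)⁻¹ by group]
      exact inv_mem (mem_zpowers _)
    exact absurd (by simpa using mul_mem (mem_sup_right (mem_zpowers w) : w ∈ F ⊔ zpowers w) (mem_sup_left hu)) (nF w hw)

theorem exists_piece {G : Type*} [Group G] [Finite G] {p : ℕ} [hp : Fact p.Prime] (hG : IsPSolvable p G)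
    {R P : Subgroup G} [R.Normal] (hR : pCore p (G ⧸ R) = ⊥) (hP : IsPGroup p P) (hRP : R ≤ P) (hd : ⁅P, P⁆ ≤ R)
    (hn : ¬ P ≤ R) : ∃ K B : Subgroup G, ∃ y ∈ P, R ≤ K ∧ ¬ K ≤ R ∧ (R.relIndex K).Coprime p ∧ P ≤ N[K] ∧
      K ≤ ⁅K, P⁆ ⊔ R ∧ R ≤ B ∧ B ≤ P ∧ K ≤ N[B] ∧ P ≤ B ⊔ zpowers y := by
  let π := QuotientGroup.mk' R
  have hs : Function.Surjective π := QuotientGroup.mk'_surjective R
  have hk : π.ker = R := QuotientGroup.ker_mk' R
  have hA : IsMulCommutative (P.map π) := by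
    rw [← der1_eq_bot, ← map_commutator, Subgroup.map_eq_bot_iff, hk]; exact hd
  have hAp : IsPGroup p (P.map π) := hP.map π
  have hH := PLocal.coprime_pPrimeCore p (G ⧸ R)
  have := PLocal.pPrimeCore_characteristic p (G ⧸ R)
  set H := pPrimeCore p (G ⧸ R)
  have hc : (#H).Coprime #(P.map π) := (PLocal.coprime_card_of_isPGroup hAp hH).symm
  have h1 : ¬ H ≤ C[P.map π] := fun h => hn (by
    have := (cents_symm h).trans (PLocal.centralizer_pPrimeCore_le_of_pSolv (PLocal.pSolv_quotient hG R) hR)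
    refine le_trans ?_ hk.le
    rw [← Subgroup.map_eq_bot_iff]
    exact PLocal.eq_bot_of_isPGroup_of_coprime hAp (PLocal.coprime_card_of_le this hH))
  obtain ⟨B, hB, hcy, h2⟩ : ∃ B ≤ P.map π, IsCyclic (P.map π /ᵍ B) ∧ ¬ H ⊓ C[B] ≤ C[P.map π] := by
    by_contra! h
    exact h1 (coprime_abelian_gen_cent hA (norm_of_normal _ _) hc h)
  obtain ⟨_, ⟨y, hy, rfl⟩, e⟩ := (cyclic_quotient_iff (sub_abelian_normal hA hB)).1 hcy
  have n1 : P.map π ≤ N[H ⊓ C[B]] := normsI (norm_of_normal _ _) (norms_cent (sub_abelian_norm hA hB))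
  have l1 : ⁅H ⊓ C[B], P.map π⁆ ≤ H ⊓ C[B] := commg_subl n1
  have e1 := coprime_commGid n1 (hc.coprime_dvd_left (card_dvd_of_le inf_le_left))
  have n2 : P.map π ≤ N[⁅H ⊓ C[B], P.map π⁆] := commg_normr _ _
  have h3 : ⁅H ⊓ C[B], P.map π⁆ ≠ ⊥ := fun h => h2 (commG1.1 h)
  generalize ⁅H ⊓ C[B], P.map π⁆ = K at l1 e1 n2 h3
  have kc : ∀ L : Subgroup (G ⧸ R), R ≤ L.comap π := fun L => hk.ge.trans (ker_le_comap π L)
  have nc : ∀ (L : Subgroup (G ⧸ R)) (M : Subgroup G), M.map π ≤ N[L] → M ≤ N[L.comap π] := fun L M h =>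
    le_norm_iff.2 fun m hm l hl => by
      rw [mem_comap, map_mul, map_mul, map_inv]; exact conj_mem_of_norm (h ⟨m, hm, rfl⟩) hl
  have mc : ∀ L : Subgroup (G ⧸ R), (L.comap π).map π = L := fun L => map_comap_eq_self_of_surjective hs L
  have cm : ∀ M : Subgroup G, (M.map π).comap π = M ⊔ R := fun M => by rw [comap_map_eq, hk]
  refine ⟨K.comap π, B.comap π, y, hy, kc K, fun h => h3 ?_, ?_, nc _ _ n2, ?_, kc B, ?_, nc _ _ ?_, ?_⟩
  · rw [← mc K, Subgroup.map_eq_bot_iff, hk]; exact h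
  · have e := relIndex_ker (K.comap π) π
    rw [hk, mc] at e
    rw [e]
    exact PLocal.coprime_card_of_le (l1.trans inf_le_left) hH
  · rw [← cm, map_commutator, mc, e1]
  · exact (comap_mono hB).trans (by rw [cm, sup_eq_left.2 hRP])
  · rw [mc]; exact cents_norm (l1.trans inf_le_right)
  · refine le_sup_left.trans ((cm P).ge.trans ?_)
    rw [← e, ← MonoidHom.map_zpowers, ← mc B, ← Subgroup.map_sup, cm, mc]
    exact sup_le le_rfl ((kc B).trans le_sup_left)

theorem SE.le_of_abelem {G : Type*} [Group G] [Finite G] {p : ℕ} [hp : Fact p.Prime] {P Z : Subgroup G}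
    (h : SE p P Z) (hG : IsPSolvable p G) (hP : IsPGroup p P) (hRP : pCore p G ≤ P) (hR : Abelem p (pCore p G))
    (hC : C[pCore p G] ≤ pCore p G) : P ≤ pCore p G := by
  have := Loc.pCore_normal' p G
  have hq := Loc.pCore_quotient_pCore p G
  have hRp := Loc.isPGroup_pCore p G
  have hZR : Z ≤ pCore p G := h.cent.trans ((centS hRP).trans hC)
  by_cases hp3 : ¬ p ≤ 3
  · intro a ha
    have := PLocal.stableOn_of_pSolv (by omega) (PLocal.pSolv_top.2 hG) (fun h => by omega) hRp (norm_of_normal _ _)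
      a (mem_top a) (commG1.2 (((commgSS hRP (zpowers_le.2 ha)).trans (h.der.trans h.cent)).trans
        (centS (zpowers_le.2 ha))))
    rw [← Loc.pCoreOf_top]
    exact PLocal.opMod_le_pCoreOf (hRp.to_le (inf_le_right.trans hC)) this
  rw [not_not] at hp3
  set R := pCore p G
  by_contra hn
  have hab : ⁅P, P⁆ ≠ ⊥ := fun e => hn ((commG1.1 e).trans ((centS hRP).trans hC))
  have hz : ∀ u ∈ P, u ∈ C[P] → u ∈ Z := fun u hu hc => by
    by_contra hu'
    exact hab (eq_bot_iff.2 (h.star ⊥ bot_le u hu hu' fun g hg =>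
      commutatorElement_eq_one_iff_mul_comm.2 (mem_cent.1 hc g hg).symm))
  obtain ⟨K, B, y, hy, hRK, hKR, hco, nK, hKP, hRB, hBP, nB, hPB⟩ := exists_piece hG hq hP hRP (h.der.trans hZR) hn
  obtain ⟨k, hk⟩ := IsPGroup.iff_card.1 hRp
  obtain ⟨K₁, hK₁⟩ := SchurZassenhaus_split (⟨hRK, norm_of_normal _ _⟩ : R ⊴ K) (hk ▸ (hco.symm.pow_left k))
  have hc₁ : (#R).Coprime #K₁ := by
    rw [← hK₁.relIndexl, hk]; exact hco.symm.pow_left k
  have hD := coprime_abelian_cent_dprod hK₁.norm hc₁ hR.1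
  have e1 : ⁅R, K₁⁆ = ⁅R, K⁆ := by
    rw [← hK₁.sup, commGC R (R ⊔ K₁), commMG (.inr hK₁.norm) (commg_normr _ _), der1_eq_bot.2 hR.1, bot_sup_eq, commGC]
  have e2 : R ⊓ C[K₁] = R ⊓ C[K] := by rw [← hK₁.sup, cent_sup, ← inf_assoc, inf_eq_left.2 hR.1.cent]
  rw [e1, e2] at hD
  have nW : P ≤ N[⁅R, K⁆] := normsR (norm_of_normal _ _) nK
  have hWR : ⁅R, K⁆ ≤ R := commg_subl (norm_of_normal _ _)
  have c0 : ∀ U ≤ Z, K ≤ N[U] → U ≤ R ⊓ C[K] := fun U hU hn => by
    have h1 : P ≤ C[U] := cents_symm (hU.trans h.cent)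
    exact le_inf (hU.trans hZR) (cents_symm (hKP.trans (sup_le ((commgS K h1).trans (commg_subr (norms_cent hn)))
      (hRP.trans h1))))
  have c1 : ¬ ⁅R, K⁆ ≤ Z := fun e => hKR ((commG1'.1 (eq_bot_iff.2 (hD.inf ▸ le_inf le_rfl
    (c0 _ e (commg_normr _ _))))).trans hC)
  have c2 : B ≤ C[⁅R, K⁆] := commG1'.1 (eq_bot_iff.2 (hD.inf ▸ le_inf (commg_subl (hBP.trans nW))
    (c0 _ ((commgSS (hWR.trans hRP) hBP).trans h.der) (normsR (commg_normr _ _) nB))))
  obtain ⟨w, hw, hwZ⟩ := SetLike.not_le_iff_exists.1 c1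
  have hwP := hRP (hWR hw)
  have cc : ∀ a ∈ P, ∀ b ∈ P, ∀ g ∈ P, Commute ⁅a, b⁆ g := fun a ha b hb g hg =>
    (mem_cent.1 (h.cent (h.der (commutator_mem_commutator ha hb))) g hg).symm
  have nyB : y ∈ N[B] := (sub_der1_normal (h.der.trans (hZR.trans hRB)) hBP).norm hy
  have c3 : ⁅P, P⁆ ≤ zpowers ⁅w, y⁆ := h.star _ (zpowers_le.2 (h.der (commutator_mem_commutator hwP hy))) w hwP hwZ
    fun g hg => by
      obtain ⟨b, hb, i, rfl⟩ := (mem_sup_zpowers nyB).1 (hPB hg)
      rw [commutator_mul_right (cc _ hwP _ (zpow_mem hy i) _ (hBP hb)), commutatorElement_eq_one_iff_mul_comm.2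
        (mem_cent.1 (c2 hb) w hw), one_mul, commutator_zpow_right (cc _ hwP _ hy _ hy)]
      exact zpow_mem (mem_zpowers _) i
  have c3' : ⁅P, P⁆ ≤ ⁅R, K⁆ := c3.trans (zpowers_le.2 (commg_subl nW (commutator_mem_commutator hw hy)))
  have c4 : P ≤ C[R ⊓ C[K]] := commG1'.1 (eq_bot_iff.2 (hD.inf ▸ le_inf
    ((commSg P (inf_le_left.trans hRP)).trans c3') (commg_subl (normsI (norm_of_normal _ _) (norms_cent nK)))))
  have c5 : B ≤ R := by
    refine le_trans ?_ hC
    conv_rhs => rw [← hD.sup]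
    exact le_cent_sup c2 (hBP.trans c4)
  have c6 : R ≤ Z ⊔ zpowers w := fun r hr => by
    obtain ⟨i, hi⟩ := mem_zpowers_iff.1 (c3 (commutator_mem_commutator (hRP hr) hy))
    have hu : r * (w ^ i)⁻¹ ∈ R := mul_mem hr (inv_mem (zpow_mem (hWR hw) i))
    have : r * (w ^ i)⁻¹ ∈ Z := hz _ (hRP hu) (centS (hPB.trans (sup_le_sup_right c5 _)) (by
      rw [cent_sup]
      refine ⟨hR.1.cent hu, cents_symm (zpowers_le.2 ?_) (mem_zpowers _)⟩
      rw [zpowers_eq_closure, centralizer_closure, mem_cent1, eq_comm, ← commutatorElement_eq_one_iff_mul_comm,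
        commutator_mul_left (cc _ (inv_mem (zpow_mem hwP i)) _ hy _ (hRP hr)),
        commutator_inv_left (cc _ (zpow_mem hwP i) _ hy _ (zpow_mem hwP i)), commutator_zpow_left (cc _ hwP _ hy _ hwP),
        hi, inv_mul_cancel]))
    simpa using mul_mem (mem_sup_left this : _ ∈ Z ⊔ zpowers w) (mem_sup_right (zpow_mem (mem_zpowers w) i))
  have := h.small hp3 w hwP y hy hwZ (hPB.trans (sup_le_sup_right (c5.trans c6) _))
  rw [hR.2 w (hWR hw), zpowers_one_eq_bot] at this
  exact hab (eq_bot_iff.2 this)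

end Cfsg.Agent.Gen2
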