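import Cfsg.Agent.BG.Base5
import Cfsg.Prelude.Def_CaseTheorems

/-! Sectional 2-rank (helper28): `sr_le`, `sr_of` (counting form of `SectionalPRankLE 2 k`), and commuting non-abelian
subgroups of a 2-group of sectional rank at most 4 (`sr_factor`, `sr_cent`, `disj_of_Z`). -/

set_option autoImplicit false

namespace Cfsg.Agent.Gen2
open Subgroup Cfsg.Agent.BG

variable {S : Type*} [Group S] [Finite S] {P Q H K N T : Subgroup S} {k : ℕ}

omit [Finite S] in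
theorem sr_le (hr : SectionalPRankLE 2 k S) (l : N ≤ H) (h : ∀ x ∈ H, x * x ∈ N) : #H ≤ 2 ^ k * #N := by
  have : (N.subgroupOf H).Normal := ⟨fun n hn g => by
    have := mul_mem (mul_mem (h _ (mul_mem g.2 n.2)) (inv_mem hn)) (h _ (inv_mem g.2))
    rw [mem_subgroupOf]; convert this using 1; simp [mul_assoc]⟩
  have e : ∀ a : H ⧸ N.subgroupOf H, a * a = 1 := fun a => by
    obtain ⟨a, rfl⟩ := QuotientGroup.mk_surjective a
    exact (QuotientGroup.eq_one_iff (a * a)).2 (h a a.2)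
  rw [← card_mul_relIndex l, mul_comm]
  refine Nat.mul_le_mul_right _ (card_top.ge.trans (hr H _ ⊤ (abelian_iff.2 fun a _ => mem_cent.2 fun b _ => ?_)
    fun a _ => by rw [pow_two, e]))
  rw [← inv_eq_of_mul_eq_one_right (e (b * a)), mul_inv_rev, inv_eq_of_mul_eq_one_right (e a),
    inv_eq_of_mul_eq_one_right (e b)]

theorem sr_of (h : ∀ H ≤ P, ∀ N ≤ H, (∀ x ∈ H, x * x ∈ N) → #H ≤ 2 ^ k * #N) : SectionalPRankLE 2 k P := by
  intro H N _ A _ hA
  have i := P.subtype_injective.comp H.subtype_injective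
  have := h _ ?_ _ (map_mono (f := P.subtype.comp H.subtype) (QuotientGroup.le_comap_mk' N A)) ?_
  · rw [card_map_of_injective i, card_map_of_injective i, Solv.card_comap_mk', mul_comm] at this
    exact Nat.le_of_mul_le_mul_right this Nat.card_pos
  · rintro _ ⟨x, -, rfl⟩; exact x.1.2
  · rintro _ ⟨x, hx, rfl⟩
    exact ⟨x * x, (QuotientGroup.eq_one_iff _).1 (by simpa [pow_two] using hA _ hx), map_mul ..⟩

theorem four_Phi (h2 : IsPGroup 2 P) (hP : ¬ IsMulCommutative P) : 4 * #(Phi P) ≤ #P := by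
  rw [← card_mul_relIndex (Phi_sub P), mul_comm, ← card_quotient (Phi_normal P).2]
  refine Nat.mul_le_mul_left _ (not_lt.1 fun r => hP ?_)
  obtain ⟨n, hn⟩ := (Phi_quotient_abelem h2).pg.exists_card_eq
  have : IsCyclic P := Phi_quotient_cyclic (isCyclic_of_card_dvd_prime (p := 2) (by
    rw [hn, show 4 = 2 ^ 2 from rfl, Nat.pow_lt_pow_iff_right one_lt_two] at r
    exact hn ▸ (pow_dvd_pow 2 (by omega : n ≤ 1))))
  infer_instance

omit [Finite S] in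
theorem sq_sup (c : K ≤ C[H]) (h1 : ∀ x ∈ H, x * x ∈ N) (h2 : ∀ x ∈ K, x * x ∈ N) : ∀ x ∈ H ⊔ K, x * x ∈ N := fun x hx => by
  obtain ⟨a, ha, b, hb, rfl⟩ := (mem_sup_norml (cents_norm c)).1 hx
  rw [← Commute.mul_mul_mul_comm (mem_cent.1 (c hb) a ha)]
  exact mul_mem (h1 a ha) (h2 b hb)

theorem sq_Phi (h2 : IsPGroup 2 P) : ∀ x ∈ P, x * x ∈ Phi P := fun _ hx => pow_two (M := S) _ ▸ pow_mem_Phi h2 hx

theorem sr_factor (hr : SectionalPRankLE 2 4 S) (h2 : IsPGroup 2 Q) (hQ : ¬ IsMulCommutative Q) (c : Q ≤ C[P])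
    (i : P ⊓ Q = ⊥) : SectionalPRankLE 2 2 P := sr_of fun H l N l' h => by
  have := sr_le hr (sup_le_sup l' (Phi_sub Q)) (sq_sup (c.trans (centS l)) (fun x hx => mem_sup_left (h x hx))
    fun x hx => mem_sup_right (sq_Phi h2 x hx))
  rw [card_sup_TI (.inr (cents_norm (c.trans (centS l)))) (eq_bot_iff.2 ((inf_le_inf_right _ l).trans i.le)),
    card_sup_TI (.inr (cents_norm ((Phi_sub Q).trans (c.trans (centS (l'.trans l))))))
      (eq_bot_iff.2 ((inf_le_inf (l'.trans l) (Phi_sub Q)).trans i.le))] at this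
  have := four_Phi h2 hQ
  have : 0 < #(Phi Q) := Nat.card_pos
  nlinarith

theorem Z_le_Phi (h2 : IsPGroup 2 P) (hP : ¬ IsMulCommutative P) (hZ : #Z[P] = 2) : Z[P] ≤ Phi P := by
  have := meet_center_nil (pgroup_nil h2) (Phi_normal P) fun e =>
    hP ((trivg_Phi h2).1 e).abelian
  exact inf_eq_right.1 (eq_of_le_of_card_ge inf_le_right (hZ ▸ (one_lt_card_iff_ne_bot _).2 this))

omit [Finite S] in
theorem cent_dprod (c : Q ≤ C[P]) : (P ⊔ Q) ⊓ C[P ⊔ Q] ≤ Z[P] ⊔ Z[Q] := fun x hx => by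
  obtain ⟨a, ha, b, hb, rfl⟩ := (mem_sup_norml (cents_norm c)).1 hx.1
  exact mul_mem_sup ⟨ha, (mul_mem_cancel_right (c hb)).1 (centS le_sup_left hx.2)⟩
    ⟨hb, (mul_mem_cancel_left (cents_symm c ha)).1 (centS le_sup_right hx.2)⟩

theorem sr_cent (h2 : IsPGroup 2 S) (hr : SectionalPRankLE 2 4 S) (hP : ¬ IsMulCommutative P) (hQ : ¬ IsMulCommutative Q)
    (hZP : #Z[P] = 2) (hZQ : #Z[Q] = 2) (c : Q ≤ C[P]) (i : P ⊓ Q = ⊥) : C[P ⊔ Q] ≤ P ⊔ Q := fun x hx => by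
  classical
  by_contra hn
  have ex : ∃ n, x ^ 2 ^ n ∈ P ⊔ Q := (h2 x).imp fun n e => (P ⊔ Q).one_mem |> e.symm.subst (motive := (· ∈ P ⊔ Q))
  obtain ⟨n, e⟩ := Nat.exists_eq_succ_of_ne_zero (n := Nat.find ex) fun e => hn (by simpa [e] using Nat.find_spec ex)
  have h3 := Nat.find_min ex (e ▸ n.lt_succ_self)
  have h4 := Nat.find_spec ex
  have h5 := pow_mem hx (2 ^ n)
  rw [e, pow_succ, pow_mul, pow_two] at h4
  generalize x ^ 2 ^ n = y at h3 h4 h5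
  have pP := h2.to_subgroup P
  have pQ := h2.to_subgroup Q
  have := sr_le hr ((sup_le_sup (Phi_sub P) (Phi_sub Q)).trans le_sup_left) (sq_sup (zpowers_le.2 h5)
    (sq_sup c (fun x hx => mem_sup_left (sq_Phi pP x hx)) fun x hx => mem_sup_right (sq_Phi pQ x hx)) (by
      rintro _ ⟨j, rfl⟩
      simpa [(Commute.refl y).mul_zpow] using zpow_mem
        (sup_le_sup (Z_le_Phi pP hP hZP) (Z_le_Phi pQ hQ hZQ) (cent_dprod c ⟨h4, mul_mem h5 h5⟩)) j))
  have lt : P ⊔ Q < P ⊔ Q ⊔ zpowers y := left_lt_sup.2 (mt zpowers_le.1 h3)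
  obtain ⟨m, hm⟩ := cardSg lt.le
  have h6 := proper_card lt
  rw [hm, card_sup_TI (.inr (cents_norm c)) i] at h6
  rw [hm, card_sup_TI (.inr (cents_norm c)) i, card_sup_TI (.inr (cents_norm ((Phi_sub Q).trans (c.trans
    (centS (Phi_sub P)))))) (eq_bot_iff.2 ((inf_le_inf (Phi_sub P) (Phi_sub Q)).trans i.le))] at this
  have h7 := Nat.mul_le_mul (four_Phi pP hP) (four_Phi pQ hQ)
  have : 2 ≤ m := (Nat.lt_mul_iff_one_lt_right (Nat.mul_pos Nat.card_pos Nat.card_pos)).1 h6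
  nlinarith

theorem disj_of_Z (h2 : IsPGroup 2 T) (hP : P ⊴ T) (hQ : Q ⊴ T) (hZP : #Z[P] = 2) (hZQ : #Z[Q] = 2)
    (ne : Z[P] ≠ Z[Q]) : P ⊓ Q = ⊥ ∧ Q ≤ C[P] := by
  have e : P ⊓ Q = ⊥ := by_contra fun e => by
    have := (one_lt_card_iff_ne_bot _).2 (meet_center_nil (pgroup_nil h2) (hP.inf hQ) e)
    exact ne ((eq_of_le_of_card_ge (inf_le_inf inf_le_left (inf_le_right.trans (centS hP.1))) (hZP.le.trans this)).symm.trans
      (eq_of_le_of_card_ge (inf_le_inf inf_le_right (inf_le_right.trans (centS hQ.1))) (hZQ.le.trans this)))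
  exact ⟨e, commG1'.1 (eq_bot_iff.2 ((commg_subI (hP.1.trans hQ.2) (hQ.1.trans hP.2)).trans e.le))⟩

end Cfsg.Agent.Gen2
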