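import Cfsg.Agent.Gen.ThompsonNil

/-!
Convenient forms of Thompson's normal `p`-complement theorem for `p ≥ 5` (`exists_W`: a nontrivial
`N(P)`-invariant subgroup `W ≤ P` whose normalizer controls `p`-nilpotency), Burnside
(`exists_five_le_dvd`), `sol_of_npc`, and `sol_of_inv_nil` (a group all of whose proper
`A`-invariant subgroups are nilpotent is solvable, if `A`-invariant Sylow subgroups exist by
coprimeness).
-/

namespace Cfsg.Agent.Gen2

open Subgroup Cfsg.Agent.BG Cfsg.Agent.PLocal Cfsg.Agent.Gen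

universe u

theorem exists_W {G : Type u} [Group G] [Finite G] {p : ℕ} [Fact p.Prime] (h5 : 5 ≤ p)
    {K P : Subgroup G} (hP : SylowIn p P K) (h1 : P ≠ ⊥) :
    ∃ W ≤ P, W ≠ ⊥ ∧ N[P] ≤ N[W] ∧
      (HasNormalPComplement p (K ⊓ N[W] : Subgroup G) → HasNormalPComplement p K) := by
  obtain ⟨S, rfl⟩ := sylow_of_sylowIn hP
  have hW := isCharPFunctor_W.{u} p
  refine ⟨inducedFunctor (fun Q _ => stableNormalClosure p Q) ((S : Subgroup K).map K.subtype),
    ind_le _ _, (ind_functor hW _ hP.pg).2.1 h1,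
    (have := (S0622.result hP.pg).1; char_norm _), fun h => npc_of_norm_W h5 S ?_⟩
  rw [ind_map_inj hW K.subtype_injective S.isPGroup'] at h
  have e : N[inducedFunctor (fun Q _ => stableNormalClosure p Q) (S : Subgroup K)] =
      (K ⊓ N[(inducedFunctor (fun Q _ => stableNormalClosure p Q) (S : Subgroup K)).map
        K.subtype]).subgroupOf K := by
    rw [Subgroup.inf_subgroupOf_left,
      Subgroup.subgroupOf_normalizer_eq (Subgroup.map_subtype_le _), Subgroup.subgroupOf,
      Subgroup.comap_map_eq_self_of_injective K.subtype_injective]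
  rw [e]
  exact Transfer.hasNormalPComplement_of_mulEquiv h (subgroupOfEquivOfLe inf_le_left).symm

theorem exists_five_le_dvd {G : Type*} [Group G] [Finite G] (hs : ¬ Group.IsSolvable G) :
    ∃ p : ℕ, p.Prime ∧ p ∣ Nat.card G ∧ 5 ≤ p := by
  by_contra! h
  refine hs (Char.isSolvable_of_two_primes (p := 2) (q := 3) fun r hr hd => ?_)
  have := h r hr hd
  have := hr.two_le
  interval_cases r
  · simp
  · simp
  · exact absurd hr (by decide)

variable {G : Type*} [Group G] [Finite G]

theorem Op'_lt {p : ℕ} (hp : p.Prime) {K : Subgroup G} (hd : p ∣ #K) : Op' p K < K :=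
  lt_of_le_of_ne (pcore_sub _ _) fun e =>
    (p'natE hp).1 (pcore_pgroup {p}ᶜ K) (by rwa [show piCoreOf {p}ᶜ K = K from e])

theorem sol_of_npc {p : ℕ} [hp : Fact p.Prime] {K : Subgroup G} (h : HasNormalPComplement p K)
    (h' : Group.IsSolvable (Op' p K)) : Group.IsSolvable K := by
  obtain ⟨N, hN, h1, h2⟩ := Transfer.hasNormalPComplement_iff_exists.1 h
  have lN : N ≤ (Op' p K).subgroupOf K := Subgroup.map_le_iff_le_comap.1
    (pcore_max (normal_map_subtype hN) (pgroup_map _ ((p'natE hp.out).2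
      ((Nat.Prime.coprime_iff_not_dvd hp.out).1 h1.symm))))
  have : Group.IsSolvable N := isog_sol ⟨(N.equivMapOfInjective _ K.subtype_injective).symm⟩
    (solvableS (Subgroup.map_le_iff_le_comap.2 lN) h')
  have := h2.isNilpotent
  exact Group.isSolvable_of_ker_le_range N.subtype (QuotientGroup.mk' N) (by simp)

theorem sol_of_inv_nil {G : Type u} [Group G] [Finite G] {K A : Subgroup G} (hn : A ≤ N[K])
    (co : (#K).Coprime #A) (hA : Group.IsSolvable A ∨ Group.IsSolvable K)
    (h : ∀ H < K, A ≤ N[H] → Group.IsNilpotent H) : Group.IsSolvable K := by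
  induction hk : #K using Nat.strong_induction_on generalizing G with
  | _ n ih =>
  subst hk
  by_contra hs
  replace hA := hA.resolve_right hs
  obtain ⟨p, hp, hd, h5⟩ := exists_five_le_dvd hs
  have := Fact.mk hp
  obtain ⟨P, hP, nP⟩ := coprime_Sylow_exists p hn co (Or.inl hA)
  obtain ⟨W, lW, W1, nW, hW⟩ := exists_W h5 hP (Sylow_ne_bot hP hd)
  rcases (inf_le_left : K ⊓ N[W] ≤ K).eq_or_lt with e | lt
  · have nK : W ⊴ K := ⟨lW.trans hP.le, inf_eq_left.1 e⟩
    refine hs (series_sol nK (pgroup_sol (hP.pg.to_le lW)) (ih _ (ltn_quotient W1 nK.le)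
      (quotient_norms W hn) (coprime_morph _ co) (Or.inl (quotient_sol _ hA)) (fun H h1 h2 => ?_) rfl))
    rw [← cosetpreK H]
    refine quotient_nil _ (h _ ?_ (norms_cosetpre (nP.trans nW) h2))
    rwa [← quotient_proper (normal_cosetpre H) nK, cosetpreK]
  have nil := h _ lt (normsI hn (norms_norm (nP.trans nW)))
  exact hs (sol_of_npc (hW Transfer.hasNormalPComplement_of_isNilpotent)
    (nilpotent_sol (h _ (Op'_lt hp hd) (norms_pcore _ hn))))

end Cfsg.Agent.Gen2
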